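import Groth.Prelude.Def_W4c3irrattreebunCvg
import Mathlib.FieldTheory.IntermediateField.Algebraic
import Mathlib.FieldTheory.IsAlgClosed.AlgebraicClosure
import Mathlib.FieldTheory.SeparableClosure

/-!
# Covering diagrams under algebraic base change
-/

universe u

open W4c3irrattreebun

namespace Groth.Agent.H15.CvgAlg.Basic

/-- A finite span closed under products is a field. -/
theorem exists_field_span {F Ω : Type u} [Field F] [Field Ω] [Algebra F Ω] {n : ℕ} (w : Fin n → Ω)
    (h1 : (1 : Ω) ∈ Submodule.span F (Set.range w))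
    (hmul : ∀ a b, w a * w b ∈ Submodule.span F (Set.range w)) :
    ∃ M : IntermediateField F Ω, ∀ x, x ∈ M ↔ x ∈ Submodule.span F (Set.range w) := by
  set S := Submodule.span F (Set.range w)
  have hm : ∀ x y, x ∈ S → y ∈ S → x * y ∈ S := by
    intro x y hx hy
    induction hx using Submodule.span_induction with
    | zero => rw [zero_mul]; exact S.zero_mem
    | add p q _ _ hp hq => rw [add_mul]; exact S.add_mem hp hq
    | smul c p _ hp => rw [smul_mul_assoc]; exact S.smul_mem c hp
    | mem p hp =>
      obtain ⟨a, rfl⟩ := hp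
      induction hy using Submodule.span_induction with
      | zero => rw [mul_zero]; exact S.zero_mem
      | add p q _ _ hp hq => rw [mul_add]; exact S.add_mem hp hq
      | smul c p _ hp => rw [mul_smul_comm]; exact S.smul_mem c hp
      | mem p hp => obtain ⟨b, rfl⟩ := hp; exact hmul a b
  let A : Subalgebra F Ω := S.toSubalgebra h1 hm
  have : Module.Finite F S := Module.Finite.span_of_finite F (Set.finite_range w)
  have : Module.Finite F A := this
  refine ⟨A.toIntermediateField fun x hx => ?_, fun x => Iff.rfl⟩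
  exact A.inv_mem_of_algebraic (x := ⟨x, hx⟩)
    ((Algebra.IsAlgebraic.isAlgebraic (R := F) (⟨x, hx⟩ : A)).algebraMap)

variable {k K L K' : Type u} [Field k] [Field K] [Field L] [Field K'] [Algebra k K] [Algebra k L]
  [Algebra K K'] [Algebra L K'] [Algebra k K'] [IsScalarTower k K K'] [IsScalarTower k L K']
  [Algebra.IsAlgebraic k L]

set_option maxHeartbeats 1000000 in
/-- A diagram extends along the base change. -/
theorem up (hgen : IntermediateField.adjoin K (Set.range (algebraMap L K')) = ⊤) {e : ℕ}
    (D : CovDiag.{u} k K e) :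
    ∃ e' ≤ e, ∃ D' : CovDiag.{u} L K' e',
      Algebra.IsSeparable K D.KC → Algebra.IsSeparable K' D'.KC := by
  classical
  let Ω := AlgebraicClosure K'
  let φ₀ : D.KC →ₐ[K] Ω := IsAlgClosed.lift
  let bK := Module.finBasis K D.KC
  let KC' : IntermediateField K' Ω := IntermediateField.adjoin K' (Set.range (φ₀ ∘ bK))
  have hint : ∀ x : D.KC, IsIntegral K' (φ₀ x) := fun x =>
    ((Algebra.IsIntegral.isIntegral (R := K) x).map φ₀).tower_top
  have : Module.Finite K' KC' := IntermediateField.finiteDimensional_adjoin fun x hx => by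
    obtain ⟨i, rfl⟩ := hx
    exact hint _
  have hφmem : ∀ x, φ₀ x ∈ KC' := fun x => by
    rw [← bK.sum_repr x, map_sum]
    refine sum_mem fun i _ => ?_
    rw [Algebra.smul_def, map_mul, AlgHom.commutes, IsScalarTower.algebraMap_apply K K' Ω]
    exact mul_mem (KC'.algebraMap_mem _) (IntermediateField.subset_adjoin _ _ ⟨i, rfl⟩)
  let φ : D.KC →ₐ[K] KC' := φ₀.codRestrict ((KC'.toSubalgebra).restrictScalars K) hφmem
  letI : Algebra L KC' := ((algebraMap K' KC').comp (algebraMap L K')).toAlgebra
  haveI : IsScalarTower L K' KC' := IsScalarTower.of_algebraMap_eq fun _ => rfl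
  letI : Algebra D.KB KC' := (φ.toRingHom.comp (algebraMap D.KB D.KC)).toAlgebra
  let ψ : D.KC →ₐ[D.KB] KC' := { φ.toRingHom with commutes' := fun _ => rfl }
  have hk : ∀ c : k, algebraMap D.KB KC' (algebraMap k D.KB c) = algebraMap L KC' (algebraMap k L c) := by
    intro c
    show φ (algebraMap D.KB D.KC (algebraMap k D.KB c)) = algebraMap K' KC' (algebraMap L K' (algebraMap k L c))
    rw [← IsScalarTower.algebraMap_apply k D.KB D.KC, IsScalarTower.algebraMap_apply k K D.KC,
      AlgHom.commutes, ← IsScalarTower.algebraMap_apply k L K', IsScalarTower.algebraMap_apply k K K',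
      ← IsScalarTower.algebraMap_apply K K' KC']
  let B := IntermediateField.adjoin D.KB (Set.range (algebraMap L KC'))
  let a1 : Algebra L B := ((algebraMap L KC').codRestrict B fun x =>
    IntermediateField.subset_adjoin _ _ ⟨x, rfl⟩).toAlgebra
  have : IsScalarTower L B KC' := IsScalarTower.of_algebraMap_eq fun x => rfl
  have : Algebra.IsAlgebraic D.KB B := IntermediateField.isAlgebraic_adjoin (by
    rintro _ ⟨x, rfl⟩
    obtain ⟨f, hf, hfx⟩ := Algebra.IsIntegral.isIntegral (R := k) x
    refine ⟨f.map (algebraMap k D.KB), hf.map _, ?_⟩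
    rw [Polynomial.eval₂_map, show (algebraMap D.KB KC').comp (algebraMap k D.KB) =
      (algebraMap L KC').comp (algebraMap k L) from RingHom.ext hk, ← Polynomial.hom_eval₂, hfx, map_zero])
  let t' : KC' := ψ D.t
  have htr₀ : Transcendental D.KB t' := fun h => D.transc ((isAlgebraic_algHom_iff ψ ψ.injective).mp h)
  have htr : Transcendental B t' := fun h => htr₀ (IsAlgebraic.restrictScalars D.KB h)
  let E := IntermediateField.adjoin D.KB ({D.t} : Set D.KC)
  let E' := IntermediateField.adjoin B ({t'} : Set KC')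
  let b := Module.finBasisOfFinrankEq E D.KC D.finrank_eq
  let w : Fin e → KC' := fun a => ψ (b a)
  have hE : ∀ c : E, ψ (c : D.KC) ∈ E' := by
    intro c
    have h1 : E.map ψ ≤ E'.restrictScalars D.KB := by
      rw [IntermediateField.adjoin_map, Set.image_singleton, IntermediateField.adjoin_simple_le_iff]
      exact IntermediateField.mem_adjoin_simple_self B t'
    exact h1 ⟨c, c.2, rfl⟩
  set Sp := Submodule.span E' (Set.range w)
  have hψS : ∀ y, ψ y ∈ Sp := by
    intro y
    rw [← b.sum_repr y, map_sum]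
    refine Submodule.sum_mem _ fun a _ => ?_
    rw [IntermediateField.smul_def, smul_eq_mul, map_mul]
    exact Submodule.smul_mem _ (⟨_, hE (b.repr y a)⟩ : E') (Submodule.subset_span ⟨a, rfl⟩)
  obtain ⟨M, hM⟩ := exists_field_span w (by simpa using hψS 1) fun a a' => by
    show ψ (b a) * ψ (b a') ∈ Sp
    rw [← map_mul]; exact hψS _
  have hLM : ∀ l : L, algebraMap L KC' l ∈ M := fun l =>
    M.algebraMap_mem (algebraMap B E' (algebraMap L B l))
  have hKM : ∀ x : K', algebraMap K' KC' x ∈ M := by
    intro x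
    have hx : x ∈ IntermediateField.adjoin K (Set.range (algebraMap L K')) := hgen ▸ IntermediateField.mem_top
    induction hx using IntermediateField.adjoin_induction with
    | mem y hy => obtain ⟨l, rfl⟩ := hy; exact hLM l
    | algebraMap c =>
      rw [← IsScalarTower.algebraMap_apply K K' KC', ← φ.commutes]
      exact (hM _).mpr (hψS _)
    | add y z _ _ hy hz => rw [map_add]; exact add_mem hy hz
    | inv y _ hy => rw [map_inv₀]; exact inv_mem hy
    | mul y z _ _ hy hz => rw [map_mul]; exact mul_mem hy hz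
  have htop : ∀ z : KC', z ∈ M := by
    rintro ⟨z, hz⟩
    suffices ∀ h : z ∈ KC', (⟨z, h⟩ : KC') ∈ M from this hz
    induction hz using IntermediateField.adjoin_induction with
    | mem y hy =>
      obtain ⟨i, rfl⟩ := hy
      intro h
      exact (hM _).mpr (hψS (bK i))
    | algebraMap c => intro h; exact hKM c
    | add y z hy hz iy iz =>
      intro h
      exact (show (⟨y + z, h⟩ : KC') = ⟨y, hy⟩ + ⟨z, hz⟩ from rfl) ▸ add_mem (iy hy) (iz hz)
    | inv y hy iy =>
      intro h
      exact (show (⟨y⁻¹, h⟩ : KC') = ⟨y, hy⟩⁻¹ from rfl) ▸ inv_mem (iy hy)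
    | mul y z hy hz iy iz =>
      intro h
      exact (show (⟨y * z, h⟩ : KC') = ⟨y, hy⟩ * ⟨z, hz⟩ from rfl) ▸ mul_mem (iy hy) (iz hz)
  have hSp : Sp = ⊤ := Submodule.eq_top_iff'.mpr fun z => (hM z).mp (htop z)
  have : Module.Finite E' KC' := ⟨hSp ▸ Submodule.fg_span (Set.finite_range w)⟩
  have he : Module.finrank E' KC' ≤ e := by
    rw [← finrank_top E' KC', ← hSp]
    exact (finrank_range_le_card w).trans (Fintype.card_fin e).le
  refine ⟨_, he, { KC := KC', KB := B, t := t', transc := htr, finrank_eq := rfl }, fun hsep => ?_⟩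
  show Algebra.IsSeparable K' KC'
  rw [IntermediateField.isSeparable_adjoin_iff_isSeparable]
  rintro _ ⟨i, rfl⟩
  have := hsep
  exact ((Algebra.IsSeparable.isSeparable K (bK i)).map φ₀ φ₀.injective).tower_top K'

/-- Coefficients over a subfield. -/
theorem adjoin_insert_le {k B Ω : Type u} [Field k] [Field B] [Field Ω] [Algebra k B] [Algebra B Ω]
    [Algebra k Ω] [IsScalarTower k B Ω] (F : IntermediateField k B) (s : Set B) (hs : ∀ c ∈ s, c ∈ F) (t : Ω) :
    IntermediateField.adjoin k (insert t (algebraMap B Ω '' s)) ≤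
      (IntermediateField.adjoin F ({t} : Set Ω)).restrictScalars k := by
  rw [IntermediateField.adjoin_le_iff]
  rintro z (rfl | ⟨c, hc, rfl⟩)
  · exact IntermediateField.mem_adjoin_simple_self _ _
  · exact (IntermediateField.adjoin F ({t} : Set Ω)).algebraMap_mem (⟨c, hs c hc⟩ : F)

set_option maxHeartbeats 1000000 in
/-- A diagram descends along the base change. -/
theorem down (halg : Algebra.IsAlgebraic K K') (hfg : (⊤ : IntermediateField k K).FG) {e : ℕ}
    (D : CovDiag.{u} L K' e) :
    ∃ D' : CovDiag.{u} k K e,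
      Algebra.IsSeparable K' D.KC → Algebra.IsSeparable K K' → Algebra.IsSeparable K D'.KC := by
  classical
  letI : Algebra K D.KC := ((algebraMap K' D.KC).comp (algebraMap K K')).toAlgebra
  haveI : IsScalarTower K K' D.KC := IsScalarTower.of_algebraMap_eq fun _ => rfl
  letI : Algebra k D.KC := ((algebraMap K D.KC).comp (algebraMap k K)).toAlgebra
  haveI : IsScalarTower k K D.KC := IsScalarTower.of_algebraMap_eq fun _ => rfl
  letI : Algebra k D.KB := ((algebraMap L D.KB).comp (algebraMap k L)).toAlgebra
  haveI : IsScalarTower k D.KB D.KC := IsScalarTower.of_algebraMap_eq fun c => by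
    show algebraMap K' D.KC (algebraMap K K' (algebraMap k K c)) = algebraMap D.KB D.KC (algebraMap L D.KB (algebraMap k L c))
    rw [← IsScalarTower.algebraMap_apply k K K', ← IsScalarTower.algebraMap_apply L D.KB D.KC,
      IsScalarTower.algebraMap_apply L K' D.KC, ← IsScalarTower.algebraMap_apply k L K']
  haveI : Algebra.IsAlgebraic K D.KC := Algebra.IsAlgebraic.trans K K' D.KC
  let E := IntermediateField.adjoin D.KB ({D.t} : Set D.KC)
  obtain ⟨b⟩ : Nonempty (Module.Basis (Fin e) E D.KC) := ⟨Module.finBasisOfFinrankEq E D.KC D.finrank_eq⟩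
  obtain ⟨T, hT⟩ := hfg
  let C : Finset D.KC := insert 1 (T.image (algebraMap K D.KC) ∪ Finset.univ.image fun ab : Fin e × Fin e => b ab.1 * b ab.2)
  have hcoef : ∀ x : E, ∃ s : Finset D.KB, (x : D.KC) ∈
      IntermediateField.adjoin k (insert D.t ((algebraMap D.KB D.KC) '' (s : Set D.KB))) := by
    rintro ⟨x, hx⟩
    induction hx using IntermediateField.adjoin_induction with
    | mem y hy => exact ⟨∅, IntermediateField.subset_adjoin _ _ (Or.inl hy)⟩
    | algebraMap c =>
      exact ⟨{c}, IntermediateField.subset_adjoin _ _ (Or.inr ⟨c, Finset.mem_singleton_self c, rfl⟩)⟩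
    | add y z _ _ hy hz =>
      obtain ⟨s, hs⟩ := hy
      obtain ⟨s', hs'⟩ := hz
      exact ⟨s ∪ s', add_mem (IntermediateField.adjoin.mono _ _ _ (Set.insert_subset_insert (Set.image_mono (Finset.coe_subset.mpr Finset.subset_union_left))) hs)
        (IntermediateField.adjoin.mono _ _ _ (Set.insert_subset_insert (Set.image_mono (Finset.coe_subset.mpr Finset.subset_union_right))) hs')⟩
    | inv y _ hy => obtain ⟨s, hs⟩ := hy; exact ⟨s, inv_mem hs⟩
    | mul y z _ _ hy hz =>
      obtain ⟨s, hs⟩ := hy
      obtain ⟨s', hs'⟩ := hz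
      exact ⟨s ∪ s', mul_mem (IntermediateField.adjoin.mono _ _ _ (Set.insert_subset_insert (Set.image_mono (Finset.coe_subset.mpr Finset.subset_union_left))) hs)
        (IntermediateField.adjoin.mono _ _ _ (Set.insert_subset_insert (Set.image_mono (Finset.coe_subset.mpr Finset.subset_union_right))) hs')⟩
  choose sc hsc using hcoef
  let U : Finset D.KB := C.biUnion fun y => Finset.univ.biUnion fun a => sc (b.repr y a)
  have hU : ∀ y ∈ C, ∀ a, ∀ c ∈ sc (b.repr y a), c ∈ U := fun y hy a c hc =>
    Finset.mem_biUnion.mpr ⟨y, hy, Finset.mem_biUnion.mpr ⟨a, Finset.mem_univ a, hc⟩⟩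
  have hC1 : (1 : D.KC) ∈ C := Finset.mem_insert_self _ _
  have hCb : ∀ a a', b a * b a' ∈ C := fun a a' =>
    Finset.mem_insert_of_mem (Finset.mem_union_right _ (Finset.mem_image.mpr ⟨(a, a'), Finset.mem_univ _, rfl⟩))
  have hCT : ∀ y ∈ T, algebraMap K D.KC y ∈ C := fun y hy =>
    Finset.mem_insert_of_mem (Finset.mem_union_left _ (Finset.mem_image_of_mem _ hy))
  clear_value U C
  let F : IntermediateField k D.KB := IntermediateField.adjoin k (U : Set D.KB)
  let E₀ := IntermediateField.adjoin F ({D.t} : Set D.KC)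
  have hC : ∀ y ∈ C, y ∈ Submodule.span E₀ (Set.range b) := by
    intro y hy
    rw [← b.sum_repr y]
    refine Submodule.sum_mem _ fun a _ => ?_
    have hmem : ((b.repr y a : E) : D.KC) ∈ E₀ :=
      adjoin_insert_le F _ (fun c hc => IntermediateField.subset_adjoin _ _ (hU y hy a c hc)) D.t (hsc _)
    exact Submodule.smul_mem _ (⟨_, hmem⟩ : E₀) (Submodule.subset_span ⟨a, rfl⟩)
  obtain ⟨M, hM⟩ := exists_field_span (F := E₀) b (hC 1 hC1) fun a a' =>
    hC _ (hCb a a')
  have hKM : ∀ x : K, algebraMap K D.KC x ∈ M := by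
    intro x
    have hx : x ∈ IntermediateField.adjoin k (T : Set K) := hT ▸ IntermediateField.mem_top
    induction hx using IntermediateField.adjoin_induction with
    | mem y hy => exact (hM _).mpr (hC _ (hCT y hy))
    | algebraMap c =>
      rw [← IsScalarTower.algebraMap_apply k K D.KC, IsScalarTower.algebraMap_apply k D.KB D.KC]
      exact (M.algebraMap_mem (algebraMap F E₀ (algebraMap k F c)) : _)
    | add y z _ _ hy hz => rw [map_add]; exact add_mem hy hz
    | inv y _ hy => rw [map_inv₀]; exact inv_mem hy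
    | mul y z _ _ hy hz => rw [map_mul]; exact mul_mem hy hz
  let G : Set D.KC := insert D.t (Set.range b ∪ algebraMap D.KB D.KC '' (U : Set D.KB))
  have hG : G.Finite := ((Set.finite_range b).union (U.finite_toSet.image _)).insert _
  let N : IntermediateField K D.KC := IntermediateField.adjoin K G
  have : Module.Finite K N := by
    have : Finite G := hG
    exact IntermediateField.finiteDimensional_adjoin fun x _ => Algebra.IsIntegral.isIntegral x
  have hGM : ∀ z ∈ N, z ∈ M := by
    intro z hz
    induction hz using IntermediateField.adjoin_induction with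
    | mem y hy =>
      rcases hy with rfl | ⟨a, rfl⟩ | ⟨c, hc, rfl⟩
      · exact M.algebraMap_mem (⟨D.t, IntermediateField.mem_adjoin_simple_self _ _⟩ : E₀)
      · exact (hM _).mpr (Submodule.subset_span ⟨a, rfl⟩)
      · exact M.algebraMap_mem (algebraMap F E₀ ⟨c, IntermediateField.subset_adjoin _ _ hc⟩)
    | algebraMap c => exact hKM c
    | add y z _ _ hy hz => exact add_mem hy hz
    | inv y _ hy => exact inv_mem hy
    | mul y z _ _ hy hz => exact mul_mem hy hz
  have hFN : ∀ c : F, algebraMap D.KB D.KC c ∈ N := by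
    rintro ⟨c, hc⟩
    induction hc using IntermediateField.adjoin_induction with
    | mem y hy => exact IntermediateField.subset_adjoin _ _ (Or.inr (Or.inr ⟨y, hy, rfl⟩))
    | algebraMap c =>
      rw [← IsScalarTower.algebraMap_apply k D.KB D.KC, IsScalarTower.algebraMap_apply k K D.KC]
      exact N.algebraMap_mem _
    | add y z _ _ hy hz => rw [map_add]; exact add_mem hy hz
    | inv y _ hy => rw [map_inv₀]; exact inv_mem hy
    | mul y z _ _ hy hz => rw [map_mul]; exact mul_mem hy hz
  letI : Algebra F N := (((algebraMap D.KB D.KC).comp (algebraMap F D.KB)).codRestrict N hFN).toAlgebra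
  haveI : IsScalarTower k F N := IsScalarTower.of_algebraMap_eq fun c => Subtype.ext (by
    show algebraMap k D.KC c = algebraMap D.KB D.KC (algebraMap k D.KB c)
    exact IsScalarTower.algebraMap_apply k D.KB D.KC c)
  let ι : N →ₐ[F] D.KC := { N.val.toRingHom with commutes' := fun _ => rfl }
  let t₀ : N := ⟨D.t, IntermediateField.subset_adjoin _ _ (Or.inl rfl)⟩
  have htr : Transcendental F t₀ := fun h =>
    D.transc ((h.algHom ι).tower_top D.KB)
  let E₁ := IntermediateField.adjoin F ({t₀} : Set N)
  have hE₁ : E₁.map ι = E₀ := by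
    rw [IntermediateField.adjoin_map, Set.image_singleton]
    rfl
  let v : Fin e → N := fun a => ⟨b a, IntermediateField.subset_adjoin _ _ (Or.inr (Or.inl ⟨a, rfl⟩))⟩
  have hE₀E : ∀ z ∈ E₀, z ∈ E := by
    intro z hz
    induction hz using IntermediateField.adjoin_induction with
    | mem y hy => rw [Set.mem_singleton_iff.mp hy]; exact IntermediateField.mem_adjoin_simple_self D.KB D.t
    | algebraMap c => exact E.algebraMap_mem (c : D.KB)
    | add y z _ _ hy hz => exact add_mem hy hz
    | inv y _ hy => exact inv_mem hy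
    | mul y z _ _ hy hz => exact mul_mem hy hz
  have hli : LinearIndependent E₁ v := by
    rw [Fintype.linearIndependent_iff]
    intro g hg a
    have hmem : ∀ i, ((g i : N) : D.KC) ∈ E := fun i => hE₀E _ (hE₁ ▸ ⟨(g i : N), (g i).2, rfl⟩)
    have h1 := congrArg Subtype.val hg
    rw [AddSubmonoidClass.coe_finsetSum] at h1
    have h2 := Fintype.linearIndependent_iff.mp b.linearIndependent
      (fun i => (⟨_, hmem i⟩ : E)) h1 a
    have h3 : ((g a : N) : D.KC) = 0 := congrArg Subtype.val h2
    exact Subtype.ext (Subtype.ext h3)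
  have hsp : ⊤ ≤ Submodule.span E₁ (Set.range v) := by
    rintro y -
    obtain ⟨g, hg⟩ := (Submodule.mem_span_range_iff_exists_fun _).mp ((hM _).mp (hGM _ y.2))
    have hlift : ∀ a, ∃ c : E₁, ((c : N) : D.KC) = g a := fun a => by
      have hle : ∀ z, z ∈ E₀ → z ∈ E₁.map ι := fun z hz => by rw [hE₁]; exact hz
      obtain ⟨c, hc, he⟩ := hle _ (g a).2
      exact ⟨⟨c, hc⟩, he⟩
    choose c hc using hlift
    refine (Submodule.mem_span_range_iff_exists_fun _).mpr ⟨c, Subtype.ext ?_⟩
    rw [AddSubmonoidClass.coe_finsetSum, ← hg]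
    refine Finset.sum_congr rfl fun a _ => ?_
    show ((c a : N) : D.KC) * b a = (g a : D.KC) * b a
    rw [hc]
  let B' := Module.Basis.mk hli hsp
  have : Module.Finite E₁ N := Module.Finite.of_basis B'
  refine ⟨{ KC := N, KB := F, t := t₀, transc := htr,
            finrank_eq := (Module.finrank_eq_card_basis B').trans (Fintype.card_fin e) }, fun h1 h2 => ?_⟩
  have : Algebra.IsSeparable K D.KC := Algebra.IsSeparable.trans K K' D.KC
  exact Algebra.isSeparable_tower_bot_of_isSeparable K N D.KC

end Groth.Agent.H15.CvgAlg.Basic
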