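import Mathlib.FieldTheory.AlgebraicClosure
import Mathlib.RingTheory.AlgebraicIndependent.AlgebraicClosure
import Mathlib.RingTheory.AlgebraicIndependent.TranscendenceBasis
import Mathlib.RingTheory.AlgebraicIndependent.Transcendental
import Mathlib.Combinatorics.Matroid.Rank.ENat

/-!
# Algebraic closure of a set inside a field extension
-/

universe u v

open IntermediateField

namespace Groth.Agent.H15.CvgAlg.Closure

variable (k : Type u) {Ω : Type v} [Field k] [Field Ω] [Algebra k Ω]

/-- Elements of `Ω` algebraic over the subfield generated by `S`. -/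
noncomputable def cl (S : Set Ω) : IntermediateField k Ω :=
  (algebraicClosure (adjoin k S) Ω).restrictScalars k

variable {k}

theorem mem_cl {S : Set Ω} {x : Ω} : x ∈ cl k S ↔ IsAlgebraic (adjoin k S) x := by
  rw [cl, IntermediateField.mem_restrictScalars, mem_algebraicClosure_iff]

theorem subset_cl (S : Set Ω) : S ⊆ cl k S := fun x hx => mem_cl.mpr
  (isAlgebraic_algebraMap (⟨x, subset_adjoin k S hx⟩ : adjoin k S))

/-- An element algebraic over a subfield of `cl k S` lies in it. -/
theorem mem_cl_of_isAlgebraic {S : Set Ω} {F : IntermediateField k Ω} (hF : F ≤ cl k S) {x : Ω}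
    (hx : IsAlgebraic F x) : x ∈ cl k S := by
  obtain ⟨p, hp, hpx⟩ := hx
  let M := algebraicClosure (adjoin k S) Ω
  let f : F →+* M := F.val.toRingHom.codRestrict M fun a => hF a.2
  have hxM : IsAlgebraic M x := ⟨p.map f, (Polynomial.map_ne_zero_iff f.injective).mpr hp, by
    rw [Polynomial.aeval_def, Polynomial.eval₂_map]
    exact hpx⟩
  exact mem_cl.mpr (hxM.restrictScalars (adjoin k S))

theorem cl_le {S T : Set Ω} (h : S ⊆ cl k T) : cl k S ≤ cl k T := fun _ hx =>
  mem_cl_of_isAlgebraic (adjoin_le_iff.mpr h) (mem_cl.mp hx)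

theorem adjoin_le_cl {S T : Set Ω} (h : S ⊆ cl k T) : adjoin k S ≤ cl k T := adjoin_le_iff.mpr h

theorem cl_mono {S T : Set Ω} (h : S ⊆ T) : cl k S ≤ cl k T := cl_le (h.trans (subset_cl T))

theorem exists_finset {S : Set Ω} {x : Ω} (hx : x ∈ cl k S) :
    ∃ s : Finset Ω, (s : Set Ω) ⊆ S ∧ x ∈ cl k (s : Set Ω) := by
  classical
  obtain ⟨p, hp, hpx⟩ := mem_cl.mp hx
  choose s hs hps using fun n => exists_finset_of_mem_adjoin (p.coeff n).2
  let s' := p.support.biUnion s
  have hc : ∀ n, ((p.coeff n : adjoin k S) : Ω) ∈ adjoin k (s' : Set Ω) := fun n => by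
    by_cases hn : p.coeff n = 0
    · rw [hn]; exact zero_mem _
    · exact adjoin.mono _ _ _ (Finset.coe_subset.mpr
        (Finset.subset_biUnion_of_mem s (Polynomial.mem_support_iff.mpr hn))) (hps n)
  let q : Polynomial Ω := p.map (algebraMap (adjoin k S) Ω)
  have hq : q ∈ Polynomial.lifts (algebraMap (adjoin k (s' : Set Ω)) Ω) := by
    rw [Polynomial.lifts_iff_coeff_lifts]
    intro n
    rw [Polynomial.coeff_map]
    exact ⟨⟨_, hc n⟩, rfl⟩
  obtain ⟨r, hr⟩ := hq
  refine ⟨s', ?_, mem_cl.mpr ⟨r, ?_, ?_⟩⟩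
  · intro z hz
    obtain ⟨n, -, hn⟩ := Finset.mem_biUnion.mp hz
    exact hs n hn
  · intro h0
    apply hp
    have : q = 0 := by rw [← hr, h0]; simp
    exact (Polynomial.map_eq_zero_iff (algebraMap (adjoin k S) Ω).injective).mp this
  · rw [Polynomial.aeval_def, ← Polynomial.eval_map,
      show r.map (algebraMap (adjoin k (s' : Set Ω)) Ω) = q from hr, Polynomial.eval_map,
      ← Polynomial.aeval_def]
    exact hpx

/-- Algebraically independent elements inside a closure are at most as many as the generators. -/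
theorem card_le {Y : Finset Ω} {ι : Type*} [Fintype ι] {x : ι → Ω} (hx : AlgebraicIndependent k x)
    (h : ∀ i, x i ∈ cl k (Y : Set Ω)) : Fintype.card ι ≤ Y.card := by
  classical
  let M := AlgebraicIndependent.matroid k Ω
  have hI : M.Indep (Set.range x) :=
    AlgebraicIndependent.matroid_indep_iff.mpr ((algebraicIndependent_subtype_range hx.injective).mpr hx)
  have hsub : Set.range x ⊆ M.closure (Y : Set Ω) := by
    rintro _ ⟨i, rfl⟩
    rw [AlgebraicIndependent.matroid_closure_eq, SetLike.mem_coe, Subalgebra.mem_algebraicClosure]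
    exact isAlgebraic_adjoin_iff.mp (mem_cl.mp (h i))
  have h1 := (hI.encard_le_eRk_of_subset hsub).trans
    ((M.eRk_closure_eq _).le.trans (M.eRk_le_encard _))
  rw [Set.encard_coe_eq_coe_finsetCard, ← Set.image_univ, hx.injective.encard_image, Set.encard_univ,
    ENat.card_eq_coe_fintype_card] at h1
  exact_mod_cast h1

/-- A subfield finite over a generated subfield is in its closure. -/
theorem mem_cl_of_finite {S : Set Ω} {F M : IntermediateField k Ω} (hF : F ≤ cl k S)
    [Algebra F M] [IsScalarTower F M Ω] [Module.Finite F M] {z : Ω} (hz : z ∈ M) : z ∈ cl k S := by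
  refine mem_cl_of_isAlgebraic hF ?_
  exact (Algebra.IsAlgebraic.isAlgebraic (R := F) (⟨z, hz⟩ : M)).algebraMap

end Groth.Agent.H15.CvgAlg.Closure
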