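import Groth.Agent.H15.CvgAlg.Gonality

/-!
# Covering gonality does not decrease under base change
-/

universe u

open W4c3irrattreebun IntermediateField
open scoped TensorProduct

namespace Groth.Agent.H15.CvgAlg.DownGen

open Groth.Agent.H15.CvgAlg.Closure Groth.Agent.H15.CvgAlg.Gonality

variable {k K L K' : Type u} [Field k] [Field K] [Field L] [Field K'] [Algebra k K] [Algebra k L]
  [Algebra K K'] [Algebra L K'] [Algebra k K'] [IsScalarTower k K K'] [IsScalarTower k L K']

set_option maxHeartbeats 2000000 in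
/-- A diagram specializes to the ground field. -/
theorem down (hinj : Function.Injective (μ (k := k) (K := K) (L := L) (K' := K')))
    (hgen : adjoin K (Set.range (algebraMap L K')) = ⊤) (hfg : (⊤ : IntermediateField k K).FG) {e : ℕ}
    (D : CovDiag.{u} L K' e) : ∃ e' ≤ e, Nonempty (CovDiag.{u} k K e') := by
  classical
  letI : Algebra K D.KC := ((algebraMap K' D.KC).comp (algebraMap K K')).toAlgebra
  haveI : IsScalarTower K K' D.KC := IsScalarTower.of_algebraMap_eq fun _ => rfl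
  letI : Algebra k D.KC := ((algebraMap K D.KC).comp (algebraMap k K)).toAlgebra
  haveI : IsScalarTower k K D.KC := IsScalarTower.of_algebraMap_eq fun _ => rfl
  haveI : IsScalarTower k L D.KC := IsScalarTower.of_algebraMap_eq fun c => by
    show algebraMap K' D.KC (algebraMap K K' (algebraMap k K c)) = _
    rw [← IsScalarTower.algebraMap_apply k K K', IsScalarTower.algebraMap_apply k L K',
      ← IsScalarTower.algebraMap_apply L K' D.KC]
  obtain ⟨x, hx, hxcl⟩ := exists_basis_of_fg hfg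
  let xC : Finset D.KC := x.image (algebraMap K D.KC)
  have hY : ∀ z : D.KC, z ∈ cl L (xC : Set D.KC) := by
    have hK : ∀ c : K, algebraMap K D.KC c ∈ cl L (xC : Set D.KC) := fun c => by
      rw [Finset.coe_image]
      exact cl_map (IsScalarTower.toAlgHom k K D.KC) (hxcl c)
    have hK' : ∀ c : K', algebraMap K' D.KC c ∈ cl L (xC : Set D.KC) := by
      intro c
      have hc : c ∈ adjoin K (Set.range (algebraMap L K')) := hgen ▸ IntermediateField.mem_top
      induction hc using IntermediateField.adjoin_induction with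
      | mem y hy =>
        obtain ⟨l, rfl⟩ := hy
        rw [← IsScalarTower.algebraMap_apply L K' D.KC]
        exact IntermediateField.algebraMap_mem _ l
      | algebraMap c => exact hK c
      | add y z _ _ hy hz => rw [map_add]; exact add_mem hy hz
      | inv y _ hy => rw [map_inv₀]; exact inv_mem hy
      | mul y z _ _ hy hz => rw [map_mul]; exact mul_mem hy hz
    intro z
    refine mem_cl_of_isAlgebraic (F := (IsScalarTower.toAlgHom L K' D.KC).fieldRange)
      (by rintro _ ⟨c, rfl⟩; exact hK' c) ?_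
    obtain ⟨p, hp, hpz⟩ := (Algebra.IsAlgebraic.isAlgebraic (R := K') z)
    let g : K' →+* (IsScalarTower.toAlgHom L K' D.KC).fieldRange :=
      (algebraMap K' D.KC).codRestrict _ fun c => ⟨c, rfl⟩
    exact ⟨p.map g, (Polynomial.map_ne_zero_iff g.injective).mpr hp, by
      rw [Polynomial.aeval_def, Polynomial.eval₂_map]; exact hpz⟩
  obtain ⟨y, hy, hycl⟩ := exists_basis_finset D.transc hY
  let yC : Finset D.KC := y.image (algebraMap D.KB D.KC)
  have hU₀ : ∀ c : D.KB, algebraMap D.KB D.KC c ∈ cl k (Set.range (algebraMap L D.KC) ∪ (yC : Set D.KC)) := by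
    intro c
    refine cl_restrict ?_
    rw [Finset.coe_image]
    exact cl_map (L := L) (IsScalarTower.toAlgHom L D.KB D.KC) (hycl c)
  choose σ hσ hσcl using fun c => exists_finset (hU₀ c)
  let E := adjoin D.KB ({D.t} : Set D.KC)
  obtain ⟨b⟩ : Nonempty (Module.Basis (Fin e) E D.KC) := ⟨Module.finBasisOfFinrankEq E D.KC D.finrank_eq⟩
  obtain ⟨T, hT⟩ := hfg
  let Ω := AlgebraicClosure K
  -- coefficients: a finite certificate for each element of `E`
  have hgood : ∀ γ ∈ E, ∃ (U : Finset D.KB) (I : Finset D.KC), ∀ (C : Subalgebra k D.KC) (ψ : C →ₐ[k] Ω),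
      D.t ∈ C → (∀ c ∈ U, algebraMap D.KB D.KC c ∈ C) → (I : Set D.KC) ⊆ C →
      ∃ h : γ ∈ C, ψ ⟨γ, h⟩ ∈ adjoin k (img ψ (insert D.t (algebraMap D.KB D.KC '' (U : Set D.KB)))) := by
    have hmono : ∀ {C : Subalgebra k D.KC} (ψ : C →ₐ[k] Ω) {U U' : Finset D.KB}, U ⊆ U' →
        adjoin k (img ψ (insert D.t (algebraMap D.KB D.KC '' (U : Set D.KB)))) ≤
          adjoin k (img ψ (insert D.t (algebraMap D.KB D.KC '' (U' : Set D.KB)))) := fun {C} ψ {U U'} h =>
      adjoin.mono _ _ _ (Set.image_mono (Set.preimage_mono (Set.insert_subset_insert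
        (Set.image_mono (Finset.coe_subset.mpr h)))))
    intro γ hγ
    induction hγ using IntermediateField.adjoin_induction with
    | mem z hz =>
      rw [Set.mem_singleton_iff] at hz
      subst hz
      exact ⟨∅, ∅, fun C ψ ht _ _ => ⟨ht, subset_adjoin _ _ (mem_img ψ ht (Or.inl rfl))⟩⟩
    | algebraMap c =>
      exact ⟨{c}, ∅, fun C ψ _ hU _ => ⟨hU c (Finset.mem_singleton_self c),
        subset_adjoin _ _ (mem_img ψ _ (Or.inr ⟨c, Finset.mem_singleton_self c, rfl⟩))⟩⟩
    | add u v _ _ hu hv =>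
      obtain ⟨U, I, h⟩ := hu
      obtain ⟨U', I', h'⟩ := hv
      refine ⟨U ∪ U', I ∪ I', fun C ψ ht hU hI => ?_⟩
      rw [Finset.coe_union, Set.union_subset_iff] at hI
      obtain ⟨h1, h1'⟩ := h C ψ ht (fun c hc => hU c (Finset.mem_union_left _ hc)) hI.1
      obtain ⟨h2, h2'⟩ := h' C ψ ht (fun c hc => hU c (Finset.mem_union_right _ hc)) hI.2
      refine ⟨add_mem h1 h2, ?_⟩
      rw [show (⟨u + v, add_mem h1 h2⟩ : C) = ⟨u, h1⟩ + ⟨v, h2⟩ from rfl, map_add]
      exact add_mem (hmono ψ Finset.subset_union_left h1') (hmono ψ Finset.subset_union_right h2')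
    | inv u _ hu =>
      obtain ⟨U, I, h⟩ := hu
      refine ⟨U, insert u⁻¹ I, fun C ψ ht hU hI => ?_⟩
      rw [Finset.coe_insert, Set.insert_subset_iff] at hI
      obtain ⟨h1, h1'⟩ := h C ψ ht hU hI.2
      refine ⟨hI.1, ?_⟩
      by_cases hu0 : u = 0
      · rw [show (⟨u⁻¹, hI.1⟩ : C) = 0 from Subtype.ext (by show u⁻¹ = 0; rw [hu0, inv_zero]), map_zero]
        exact zero_mem _
      · have h3 : ψ ⟨u⁻¹, hI.1⟩ * ψ ⟨u, h1⟩ = 1 := by
          rw [← map_mul, show (⟨u⁻¹, hI.1⟩ : C) * ⟨u, h1⟩ = 1 from Subtype.ext (inv_mul_cancel₀ hu0), map_one]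
        rw [eq_inv_of_mul_eq_one_left h3]
        exact inv_mem h1'
    | mul u v _ _ hu hv =>
      obtain ⟨U, I, h⟩ := hu
      obtain ⟨U', I', h'⟩ := hv
      refine ⟨U ∪ U', I ∪ I', fun C ψ ht hU hI => ?_⟩
      rw [Finset.coe_union, Set.union_subset_iff] at hI
      obtain ⟨h1, h1'⟩ := h C ψ ht (fun c hc => hU c (Finset.mem_union_left _ hc)) hI.1
      obtain ⟨h2, h2'⟩ := h' C ψ ht (fun c hc => hU c (Finset.mem_union_right _ hc)) hI.2
      refine ⟨mul_mem h1 h2, ?_⟩
      rw [show (⟨u * v, mul_mem h1 h2⟩ : C) = ⟨u, h1⟩ * ⟨v, h2⟩ from rfl, map_mul]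
      exact mul_mem (hmono ψ Finset.subset_union_left h1') (hmono ψ Finset.subset_union_right h2')
  choose UU II hUI using fun γ : E => hgood γ γ.2
  let P : Finset D.KC := insert 1 (T.image (algebraMap K D.KC) ∪
    Finset.univ.image fun ab : Fin e × Fin e => b ab.1 * b ab.2)
  let U : Finset D.KB := P.biUnion fun z => Finset.univ.biUnion fun a => UU (b.repr z a)
  -- denominators for the elements of `U`
  have hden : ∀ c, ∃ d : Algebra.adjoin k (σ c : Set D.KC), d ≠ 0 ∧
      IsIntegral (Algebra.adjoin k (σ c : Set D.KC)) ((d : D.KC) * algebraMap D.KB D.KC c) := by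
    intro c
    obtain ⟨d, hd, hdi⟩ := (isAlgebraic_adjoin_iff.mp (mem_cl.mp (hσcl c))).exists_integral_multiple
    exact ⟨d, hd, hdi⟩
  choose den hden0 hdeni using hden
  let I : Finset D.KC := insert D.t (Finset.univ.image b ∪ P ∪ U.image (algebraMap D.KB D.KC) ∪ yC ∪
    (P.biUnion fun z => Finset.univ.biUnion fun a => II (b.repr z a) ∪ {((b.repr z a : E) : D.KC)}) ∪
    (U.biUnion fun c => σ c ∪ {(den c : D.KC)⁻¹} ∪ {(den c : D.KC) * algebraMap D.KB D.KC c}))
  have hP1 : (1 : D.KC) ∈ P := Finset.mem_insert_self _ _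
  have hPT : ∀ c ∈ T, algebraMap K D.KC c ∈ P := fun c hc =>
    Finset.mem_insert_of_mem (Finset.mem_union_left _ (Finset.mem_image_of_mem _ hc))
  have hPb : ∀ a a', b a * b a' ∈ P := fun a a' =>
    Finset.mem_insert_of_mem (Finset.mem_union_right _ (Finset.mem_image.mpr ⟨(a, a'), Finset.mem_univ _, rfl⟩))
  have hIt : D.t ∈ I := Finset.mem_insert_self _ _
  have hIb : ∀ a, b a ∈ I := fun a => by simp [I]
  have hIP : ∀ z ∈ P, z ∈ I := fun z hz => by simp [I, hz]
  have hIU : ∀ c ∈ U, algebraMap D.KB D.KC c ∈ I := fun c hc => by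
    simp only [I, Finset.mem_insert, Finset.mem_union, Finset.mem_image]
    exact Or.inr (Or.inl (Or.inl (Or.inl (Or.inr ⟨c, hc, rfl⟩))))
  have hIc : ∀ z ∈ P, ∀ a, (∀ i ∈ II (b.repr z a), i ∈ I) ∧ ((b.repr z a : E) : D.KC) ∈ I := fun z hz a => by
    refine ⟨fun i hi => ?_, ?_⟩ <;> simp only [I, Finset.mem_insert, Finset.mem_union, Finset.mem_biUnion] <;>
      refine Or.inr (Or.inl (Or.inr ⟨z, hz, a, Finset.mem_univ a, ?_⟩))
    · exact Or.inl hi
    · exact Or.inr (Finset.mem_singleton_self _)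
  have hIs : ∀ c ∈ U, (∀ i ∈ σ c, i ∈ I) ∧ (den c : D.KC)⁻¹ ∈ I ∧
      (den c : D.KC) * algebraMap D.KB D.KC c ∈ I := fun c hc => by
    refine ⟨fun i hi => ?_, ?_, ?_⟩ <;> simp only [I, Finset.mem_insert, Finset.mem_union, Finset.mem_biUnion] <;>
      refine Or.inr (Or.inr ⟨c, hc, ?_⟩)
    · exact Or.inl (Or.inl hi)
    · exact Or.inl (Or.inr (Finset.mem_singleton_self _))
    · exact Or.inr (Finset.mem_singleton_self _)
  have hUU : ∀ z ∈ P, ∀ a, UU (b.repr z a) ⊆ U := fun z hz a c hc =>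
    Finset.mem_biUnion.mpr ⟨z, hz, Finset.mem_biUnion.mpr ⟨a, Finset.mem_univ a, hc⟩⟩
  clear_value P U I
  -- the parameters
  have halg : ∀ i : D.KC, i ∈ cl k (algebraMap K D.KC '' (T : Set K) ∪ Set.range (algebraMap L D.KC)) := by
    intro i
    have hle : ∀ z ∈ Set.range (algebraMap L D.KC) ∪ (xC : Set D.KC),
        z ∈ cl k (algebraMap K D.KC '' (T : Set K) ∪ Set.range (algebraMap L D.KC)) := by
      rintro z (hz | hz)
      · exact subset_cl _ (Or.inr hz)
      · obtain ⟨c, -, rfl⟩ := Finset.mem_image.mp hz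
        have hc : algebraMap K D.KC c ∈ (adjoin k (T : Set K)).map (IsScalarTower.toAlgHom k K D.KC) :=
          ⟨c, hT ▸ IntermediateField.mem_top, rfl⟩
        rw [IntermediateField.adjoin_map] at hc
        exact adjoin_le_cl (fun w hw => subset_cl _ (Or.inl hw)) hc
    exact cl_le hle (cl_restrict (hY i))
  choose τ hτ hτcl using fun i => exists_finset (halg i)
  let sC : Finset D.KC := (I.biUnion τ ∪ U.biUnion σ).filter fun z => z ∈ Set.range (algebraMap L D.KC)
  have hsL : ∀ z : sC, ∃ l : L, algebraMap L D.KC l = z := fun z => (Finset.mem_filter.mp z.2).2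
  choose lf hlf using hsL
  let R₀ : Subalgebra k L := Algebra.adjoin k (Set.range lf)
  have : Algebra.FiniteType k R₀ :=
    (Subalgebra.fg_iff_finiteType _).mp (Subalgebra.fg_def.mpr ⟨_, Set.finite_range lf, rfl⟩)
  let T₀ : Subalgebra k K := Algebra.adjoin k (T : Set K)
  have : Algebra.FiniteType k T₀ :=
    (Subalgebra.fg_iff_finiteType _).mp (Subalgebra.fg_def.mpr ⟨_, T.finite_toSet, rfl⟩)
  have : IsFractionRing T₀ K := by
    refine IsFractionRing.of_field T₀ K fun z => ?_
    obtain ⟨r, hr, s, hs, hrs⟩ := IntermediateField.mem_adjoin_iff_div.mp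
      (show z ∈ adjoin k (T : Set K) from hT ▸ IntermediateField.mem_top)
    exact ⟨⟨r, hr⟩, ⟨s, hs⟩, hrs⟩
  let θ : T₀ ⊗[k] R₀ →ₐ[k] D.KC :=
    ((IsScalarTower.toAlgHom L K' D.KC).restrictScalars k).comp
      ((μ (k := k) (K := K) (L := L) (K' := K')).comp (Algebra.TensorProduct.map T₀.val R₀.val))
  have hθ : Function.Injective θ := by
    refine (algebraMap K' D.KC).injective.comp (hinj.comp ?_)
    change Function.Injective (TensorProduct.map T₀.val.toLinearMap R₀.val.toLinearMap)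
    exact TensorProduct.map_injective_of_flat_flat _ _ Subtype.val_injective Subtype.val_injective
  have hθT : ∀ a : T₀, θ (a ⊗ₜ 1) = algebraMap K D.KC a := fun a => by
    show algebraMap K' D.KC (μ (Algebra.TensorProduct.map T₀.val R₀.val (a ⊗ₜ 1))) = _
    simp [μ, ← IsScalarTower.algebraMap_apply K K' D.KC]
  have hθR : ∀ r : R₀, θ (1 ⊗ₜ r) = algebraMap L D.KC r := fun r => by
    show algebraMap K' D.KC (μ (Algebra.TensorProduct.map T₀.val R₀.val (1 ⊗ₜ r))) = _
    simp [μ, ← IsScalarTower.algebraMap_apply L K' D.KC]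
  have hrange : ∀ z ∈ sC, z ∈ θ.range := fun z hz =>
    ⟨1 ⊗ₜ ⟨lf ⟨z, hz⟩, Algebra.subset_adjoin ⟨_, rfl⟩⟩, by
      show θ _ = z
      rw [hθR]; exact hlf ⟨z, hz⟩⟩
  have hIalg : ∀ i ∈ I, IsAlgebraic θ.range i := by
    intro i hi
    have hsub : (τ i : Set D.KC) ⊆ θ.range := by
      intro z hz
      rcases hτ i hz with ⟨c, hc, rfl⟩ | hr
      · exact ⟨⟨c, Algebra.subset_adjoin hc⟩ ⊗ₜ 1, hθT _⟩
      · exact hrange z (Finset.mem_filter.mpr
          ⟨Finset.mem_union_left _ (Finset.mem_biUnion.mpr ⟨i, hi, hz⟩), hr⟩)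
    obtain ⟨p, hp, hpz⟩ := isAlgebraic_adjoin_iff.mp (mem_cl.mp (hτcl i))
    let g := Subalgebra.inclusion (Algebra.adjoin_le (R := k) hsub)
    exact ⟨p.map g.toRingHom, (Polynomial.map_ne_zero_iff (Subalgebra.inclusion_injective _)).mpr hp, by
      rw [Polynomial.aeval_def, Polynomial.eval₂_map]; exact hpz⟩
  obtain ⟨C, ψ, hIC, hψT, hψR⟩ := Place.exists_place (k := k) (K := K) (Ω := Ω) θ hθ I hIalg
  have hmemC : ∀ {z}, z ∈ I → z ∈ C := fun hz => hIC hz
  -- the new base
  let Yb : Set Ω := img ψ (yC : Set D.KC)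
  have hσimg : ∀ c, ∀ hc : c ∈ U, ∀ i (hi : i ∈ σ c), ψ ⟨i, hmemC ((hIs c hc).1 i hi)⟩ ∈ cl k Yb := by
    intro c hc i hi
    rcases hσ c hi with hr | hyi
    · have his : i ∈ sC := Finset.mem_filter.mpr
        ⟨Finset.mem_union_right _ (Finset.mem_biUnion.mpr ⟨c, hc, hi⟩), hr⟩
      obtain ⟨hC, hal⟩ := hψR ⟨lf ⟨i, his⟩, Algebra.subset_adjoin ⟨_, rfl⟩⟩
      refine mem_cl_of_isAlgebraic (F := ⊥) bot_le ?_
      have e : (⟨i, hmemC ((hIs c hc).1 i hi)⟩ : C) = ⟨_, hC⟩ := Subtype.ext (by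
        show i = θ _
        rw [hθR]; exact (hlf ⟨i, his⟩).symm)
      rw [e]
      exact hal.tower_top (⊥ : IntermediateField k Ω)
    · exact subset_cl _ (mem_img ψ _ hyi)
  have hUimg : ∀ c (hc : c ∈ U), ψ ⟨_, hmemC (hIU c hc)⟩ ∈ cl k Yb := by
    intro c hc
    set W := Algebra.adjoin k (σ c : Set D.KC) with hW
    have hWC : W ≤ C := Algebra.adjoin_le fun i hi => hmemC ((hIs c hc).1 i hi)
    have hWimg : ∀ w : W, ψ ⟨w.1, hWC w.2⟩ ∈ cl k Yb := by
      rintro ⟨w, hw⟩
      induction hw using Algebra.adjoin_induction with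
      | mem i hi => exact hσimg c hc i hi
      | algebraMap r =>
        rw [show (⟨algebraMap k D.KC r, _⟩ : C) = algebraMap k C r from rfl, AlgHom.commutes]
        exact IntermediateField.algebraMap_mem _ r
      | add u v hu hv iu iv =>
        rw [show (⟨u + v, hWC (add_mem hu hv)⟩ : C) = ⟨u, hWC hu⟩ + ⟨v, hWC hv⟩ from rfl, map_add]
        exact add_mem iu iv
      | mul u v hu hv iu iv =>
        rw [show (⟨u * v, hWC (mul_mem hu hv)⟩ : C) = ⟨u, hWC hu⟩ * ⟨v, hWC hv⟩ from rfl, map_mul]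
        exact mul_mem iu iv
    obtain ⟨f, hf, hfz⟩ := hdeni c
    let iW : W →+* C := (Subalgebra.inclusion hWC).toRingHom
    have hd' : ψ ⟨_, hmemC (hIs c hc).2.2⟩ ∈ cl k Yb := by
      let g : W →+* cl k Yb := (ψ.toRingHom.comp iW).codRestrict (cl k Yb) hWimg
      refine mem_cl_of_isAlgebraic le_rfl ⟨f.map g, (hf.map g).ne_zero, ?_⟩
      have h0 : Polynomial.eval₂ iW (⟨_, hmemC (hIs c hc).2.2⟩ : C) f = 0 := by
        apply Subtype.val_injective
        show C.val.toRingHom _ = _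
        rw [Polynomial.hom_eval₂]
        exact hfz
      rw [Polynomial.aeval_def, Polynomial.eval₂_map]
      show Polynomial.eval₂ (ψ.toRingHom.comp iW) (ψ.toRingHom ⟨_, hmemC (hIs c hc).2.2⟩) f = 0
      rw [← Polynomial.hom_eval₂, h0, map_zero]
    have hne : (den c : D.KC) ≠ 0 := fun h0 => hden0 c (Subtype.ext h0)
    have hinv : ψ ⟨_, hmemC (hIs c hc).2.1⟩ * ψ ⟨(den c : D.KC), hWC (den c).2⟩ = 1 := by
      rw [← map_mul, show (⟨_, hmemC (hIs c hc).2.1⟩ : C) * ⟨(den c : D.KC), hWC (den c).2⟩ = 1 from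
        Subtype.ext (inv_mul_cancel₀ hne), map_one]
    have hsplit : ψ ⟨_, hmemC (hIU c hc)⟩ =
        ψ ⟨_, hmemC (hIs c hc).2.1⟩ * ψ ⟨_, hmemC (hIs c hc).2.2⟩ := by
      rw [← map_mul]
      exact congrArg ψ (Subtype.ext (inv_mul_cancel_left₀ hne _).symm)
    rw [hsplit, eq_inv_of_mul_eq_one_left hinv]
    exact mul_mem (inv_mem (hWimg (den c))) hd'
  let κB : IntermediateField k Ω := adjoin k (img ψ (algebraMap D.KB D.KC '' (U : Set D.KB)))
  have hκB : κB ≤ cl k Yb := by
    refine adjoin_le_cl ?_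
    rintro _ ⟨z, ⟨c, hc, hcz⟩, rfl⟩
    rw [show z = ⟨_, hmemC (hIU c hc)⟩ from Subtype.ext hcz.symm]
    exact hUimg c hc
  let tb : Ω := ψ ⟨D.t, hmemC hIt⟩
  let E₀ : IntermediateField κB Ω := adjoin κB ({tb} : Set Ω)
  let v₀ : Fin e → Ω := fun a => ψ ⟨b a, hmemC (hIb a)⟩
  have hcoef : ∀ z (hz : z ∈ P) a, ψ ⟨_, hmemC (hIc z hz a).2⟩ ∈ E₀ := by
    intro z hz a
    obtain ⟨h1, h2⟩ := hUI (b.repr z a) C ψ (hmemC hIt) (fun c hc => hmemC (hIU c (hUU z hz a hc)))
      (fun i hi => hmemC ((hIc z hz a).1 i hi))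
    have hle : adjoin k (img ψ (insert D.t (algebraMap D.KB D.KC '' (UU (b.repr z a) : Set D.KB)))) ≤
        E₀.restrictScalars k := by
      refine adjoin_le_iff.mpr ?_
      rintro _ ⟨w, hw | ⟨c, hc, hcw⟩, rfl⟩
      · rw [show w = ⟨D.t, hmemC hIt⟩ from Subtype.ext hw]
        exact IntermediateField.mem_adjoin_simple_self _ _
      · exact E₀.algebraMap_mem (⟨ψ w, IntermediateField.subset_adjoin _ _
          ⟨w, ⟨c, hUU z hz a hc, hcw⟩, rfl⟩⟩ : κB)
    exact hle h2
  have hPS : ∀ z (hz : z ∈ P), ψ ⟨z, hmemC (hIP z hz)⟩ ∈ Submodule.span E₀ (Set.range v₀) := by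
    intro z hz
    have e1 : (⟨z, hmemC (hIP z hz)⟩ : C) =
        ∑ a, ⟨_, hmemC (hIc z hz a).2⟩ * ⟨b a, hmemC (hIb a)⟩ := by
      refine Subtype.ext ?_
      rw [AddSubmonoidClass.coe_finsetSum]
      exact (b.sum_repr z).symm
    rw [e1, map_sum]
    refine Submodule.sum_mem _ fun a _ => ?_
    rw [map_mul]
    exact Submodule.smul_mem _ (⟨_, hcoef z hz a⟩ : E₀) (Submodule.subset_span ⟨a, rfl⟩)
  obtain ⟨M, hM⟩ := Basic.exists_field_span (F := E₀) v₀
    (by
      have := hPS 1 hP1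
      rwa [show (⟨(1 : D.KC), hmemC (hIP 1 hP1)⟩ : C) = 1 from rfl, map_one] at this)
    fun a a' => by
      have := hPS _ (hPb a a')
      rwa [show (⟨b a * b a', hmemC (hIP _ (hPb a a'))⟩ : C) = ⟨b a, hmemC (hIb a)⟩ * ⟨b a', hmemC (hIb a')⟩ from rfl,
        map_mul] at this
  have hKM : ∀ c : K, algebraMap K Ω c ∈ M := by
    intro c
    have hc : c ∈ adjoin k (T : Set K) := hT ▸ IntermediateField.mem_top
    induction hc using IntermediateField.adjoin_induction with
    | mem y hy =>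
      obtain ⟨hC, hval⟩ := hψT ⟨y, Algebra.subset_adjoin hy⟩
      rw [show algebraMap K Ω y = algebraMap T₀ Ω ⟨y, Algebra.subset_adjoin hy⟩ from rfl, ← hval,
        show (⟨_, hC⟩ : C) = ⟨_, hmemC (hIP _ (hPT y hy))⟩ from Subtype.ext (hθT _)]
      exact (hM _).mpr (hPS _ (hPT y hy))
    | algebraMap r =>
      rw [← IsScalarTower.algebraMap_apply k K Ω, IsScalarTower.algebraMap_apply k κB Ω]
      exact M.algebraMap_mem (algebraMap κB E₀ (algebraMap k κB r))
    | add y z _ _ hy hz => rw [map_add]; exact add_mem hy hz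
    | inv y _ hy => rw [map_inv₀]; exact inv_mem hy
    | mul y z _ _ hy hz => rw [map_mul]; exact mul_mem hy hz
  have hMfin : Module.Finite E₀ M := by
    have : Module.Finite E₀ (Submodule.span E₀ (Set.range v₀)) :=
      Module.Finite.span_of_finite E₀ (Set.finite_range v₀)
    exact Module.Finite.equiv (LinearEquiv.ofEq _ M.toSubalgebra.toSubmodule
      (Submodule.ext fun z => (hM z).symm))
  -- transcendence
  have htb : Transcendental κB tb := by
    intro halg
    have hE₀ : E₀.restrictScalars k ≤ cl k Yb := by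
      intro z hz
      rw [IntermediateField.mem_restrictScalars] at hz
      induction hz using IntermediateField.adjoin_induction with
      | mem w hw => rw [Set.mem_singleton_iff.mp hw]; exact mem_cl_of_isAlgebraic hκB halg
      | algebraMap c => exact hκB c.2
      | add y z _ _ hy hz => exact add_mem hy hz
      | inv y _ hy => exact inv_mem hy
      | mul y z _ _ hy hz => exact mul_mem hy hz
    have hfinY : Yb.Finite := ((yC.finite_toSet.preimage Subtype.val_injective.injOn).image _)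
    have hall : ∀ c : K, algebraMap K Ω c ∈ cl k ((hfinY.toFinset : Finset Ω) : Set Ω) := by
      intro c
      rw [hfinY.coe_toFinset]
      exact mem_cl_of_isAlgebraic hE₀
        ((isAlgebraic_algHom_iff M.val M.val.injective).mpr
          (Algebra.IsAlgebraic.isAlgebraic (R := E₀) (⟨_, hKM c⟩ : M)))
    have h1 := card_le (hx.map' (f := IsScalarTower.toAlgHom k K Ω) (algebraMap K Ω).injective) fun i => hall i.1
    rw [Fintype.card_coe] at h1
    have h2 : hfinY.toFinset.card ≤ yC.card := by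
      refine (Finset.card_le_card_of_surjOn (fun z => if hz : z ∈ C then ψ ⟨z, hz⟩ else 0) ?_)
      intro w hw
      obtain ⟨z, hz, rfl⟩ := hfinY.mem_toFinset.mp hw
      exact ⟨z.1, hz, by simp⟩
    have h3 : yC.card ≤ y.card := Finset.card_image_le
    have h4 : xC.card ≤ x.card := Finset.card_image_le
    omega
  -- the diagram
  let G : Set Ω := insert tb (Set.range v₀ ∪ img ψ (algebraMap D.KB D.KC '' (U : Set D.KB)))
  have hG : G.Finite := ((Set.finite_range v₀).union
    (((U.finite_toSet.image _).preimage Subtype.val_injective.injOn).image _)).insert _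
  let N : IntermediateField K Ω := adjoin K G
  have : Module.Finite K N := by
    have : Finite G := hG
    exact IntermediateField.finiteDimensional_adjoin fun x _ => Algebra.IsIntegral.isIntegral x
  have hGM : ∀ z ∈ N, z ∈ M := by
    intro z hz
    induction hz using IntermediateField.adjoin_induction with
    | mem y hy =>
      rcases hy with rfl | ⟨a, rfl⟩ | hy
      · exact M.algebraMap_mem (⟨tb, IntermediateField.mem_adjoin_simple_self _ _⟩ : E₀)
      · exact (hM _).mpr (Submodule.subset_span ⟨a, rfl⟩)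
      · exact M.algebraMap_mem (algebraMap κB E₀ ⟨y, IntermediateField.subset_adjoin _ _ hy⟩)
    | algebraMap c => exact hKM c
    | add y z _ _ hy hz => exact add_mem hy hz
    | inv y _ hy => exact inv_mem hy
    | mul y z _ _ hy hz => exact mul_mem hy hz
  have hFN : ∀ c : κB, (c : Ω) ∈ N := by
    rintro ⟨c, hc⟩
    induction hc using IntermediateField.adjoin_induction with
    | mem y hy => exact IntermediateField.subset_adjoin _ _ (Or.inr (Or.inr hy))
    | algebraMap c =>
      show algebraMap k Ω c ∈ N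
      rw [IsScalarTower.algebraMap_apply k K Ω]; exact N.algebraMap_mem _
    | add y z _ _ hy hz => exact add_mem hy hz
    | inv y _ hy => exact inv_mem hy
    | mul y z _ _ hy hz => exact mul_mem hy hz
  letI : Algebra κB N := ((algebraMap κB Ω).codRestrict N hFN).toAlgebra
  haveI : IsScalarTower k κB N := IsScalarTower.of_algebraMap_eq fun c => Subtype.ext (by
    show algebraMap k Ω c = (algebraMap k κB c : Ω)
    rfl)
  let ιN : N →ₐ[κB] Ω := { N.val.toRingHom with commutes' := fun _ => rfl }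
  let t₀ : N := ⟨tb, IntermediateField.subset_adjoin _ _ (Or.inl rfl)⟩
  have htr : Transcendental κB t₀ := fun h => htb (h.algHom ιN)
  let E₁ := adjoin κB ({t₀} : Set N)
  have hE₁ : E₁.map ιN = E₀ := by
    rw [IntermediateField.adjoin_map, Set.image_singleton]
    rfl
  let v : Fin e → N := fun a => ⟨v₀ a, IntermediateField.subset_adjoin _ _ (Or.inr (Or.inl ⟨a, rfl⟩))⟩
  have hsp : (⊤ : Submodule E₁ N) = Submodule.span E₁ (Set.range v) := by
    refine (Submodule.eq_top_iff'.mpr fun y => ?_).symm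
    obtain ⟨g, hg⟩ := (Submodule.mem_span_range_iff_exists_fun _).mp ((hM _).mp (hGM _ y.2))
    have hlift : ∀ a, ∃ c : E₁, ((c : N) : Ω) = g a := fun a => by
      have hle : ∀ z, z ∈ E₀ → z ∈ E₁.map ιN := fun z hz => by rw [hE₁]; exact hz
      obtain ⟨c, hc, he⟩ := hle _ (g a).2
      exact ⟨⟨c, hc⟩, he⟩
    choose c hc using hlift
    refine (Submodule.mem_span_range_iff_exists_fun _).mpr ⟨c, Subtype.ext ?_⟩
    rw [AddSubmonoidClass.coe_finsetSum, ← hg]
    refine Finset.sum_congr rfl fun a _ => ?_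
    show ((c a : N) : Ω) * v₀ a = (g a : Ω) * v₀ a
    rw [hc]
  have : Module.Finite E₁ N := ⟨hsp ▸ Submodule.fg_span (Set.finite_range v)⟩
  have he : Module.finrank E₁ N ≤ e := by
    rw [← finrank_top E₁ N, hsp]
    exact (finrank_range_le_card v).trans (Fintype.card_fin e).le
  exact ⟨_, he, ⟨{ KC := N, KB := κB, t := t₀, transc := htr, finrank_eq := rfl }⟩⟩

end Groth.Agent.H15.CvgAlg.DownGen
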