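import Groth.Agent.Lib.EtaPt.Main
import Mathlib.RingTheory.Jacobson.Ring
import Mathlib.RingTheory.FiniteStability
import Mathlib.RingTheory.Flat.TorsionFree
import Mathlib.RingTheory.TensorProduct.Free
import Mathlib.RingTheory.IntegralClosure.IntegralRestrict
import Mathlib.RingTheory.Algebraic.Integral
import Mathlib.LinearAlgebra.TensorProduct.RightExactness
import Mathlib.FieldTheory.AlgebraicClosure

/-!
# Specialization of a field extension at a closed point of the parameters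
-/

universe u

open scoped TensorProduct

namespace Groth.Agent.H15.CvgAlg.Place

variable {k K Ω : Type u} [Field k] [Field K] [Algebra k K] [Field Ω] [Algebra K Ω] [Algebra k Ω]
  [IsScalarTower k K Ω] [IsAlgClosed Ω] [Algebra.IsAlgebraic K Ω]

set_option maxHeartbeats 800000 in
/-- A closed point of the parameters avoiding `g`, lifted over the generic point of `T₀`. -/
theorem exists_point {T₀ R₀ : Type u} [CommRing T₀] [IsDomain T₀] [Algebra k T₀] [Algebra.FiniteType k T₀]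
    [Algebra T₀ K] [IsScalarTower k T₀ K] [IsFractionRing T₀ K] [Algebra T₀ Ω] [IsScalarTower T₀ K Ω]
    [CommRing R₀] [Algebra k R₀] [Algebra.FiniteType k R₀] [IsDomain (T₀ ⊗[k] R₀)]
    {g : T₀ ⊗[k] R₀} (hg : g ≠ 0) :
    ∃ χ : T₀ ⊗[k] R₀ →+* Ω, χ g ≠ 0 ∧ (∀ a, χ (a ⊗ₜ 1) = algebraMap T₀ Ω a) ∧
      ∀ r, IsAlgebraic k (χ (1 ⊗ₜ r)) := by
  let P := T₀ ⊗[k] R₀
  have : Algebra.FiniteType k P := Algebra.FiniteType.trans (S := T₀) inferInstance inferInstance
  have : IsJacobsonRing P := isJacobsonRing_of_finiteType (A := k)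
  obtain ⟨M, hM, hgM⟩ : ∃ M : Ideal P, M.IsMaximal ∧ g ∉ M := by
    by_contra h
    push Not at h
    have : g ∈ (⊥ : Ideal P).jacobson := Ideal.mem_sInf.mpr fun J hJ => h J hJ.2
    rw [IsJacobsonRing.out ‹IsJacobsonRing P› (Ideal.isPrime_bot (α := P)).isRadical] at this
    exact hg this
  have := hM
  let iR : R₀ →ₐ[k] P := Algebra.TensorProduct.includeRight
  let m : Ideal R₀ := M.comap iR.toRingHom
  let : Field (P ⧸ M) := Ideal.Quotient.field M
  have : Module.Finite k (P ⧸ M) := finite_of_finite_type_of_isJacobsonRing k (P ⧸ M)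
  let jR : (R₀ ⧸ m) →ₐ[k] (P ⧸ M) := Ideal.quotientMapₐ M iR le_rfl
  have : Module.Finite k (R₀ ⧸ m) := Module.Finite.of_injective jR.toLinearMap
    (Ideal.quotientMap_injective' (H := le_rfl) le_rfl)
  let P' := T₀ ⊗[k] (R₀ ⧸ m)
  letI : CommRing P' := Algebra.TensorProduct.instCommRing
  let π : P →ₐ[k] P' := Algebra.TensorProduct.map (AlgHom.id k T₀) (Ideal.Quotient.mkₐ k m)
  have hker : RingHom.ker π.toRingHom ≤ M := by
    rw [show RingHom.ker π.toRingHom = RingHom.ker π from rfl,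
      Algebra.TensorProduct.lTensor_ker (Ideal.Quotient.mkₐ k m) (Ideal.Quotient.mkₐ_surjective k m)]
    refine Ideal.map_le_iff_le_comap.mpr fun r hr => ?_
    rw [← RingHom.ker_coe_toRingHom, Ideal.Quotient.mkₐ_ker] at hr
    exact hr
  have hπg : ∀ n : ℕ, π g ^ n ≠ 0 := fun n h0 => by
    refine hgM (hM.isPrime.mem_of_pow_mem n (hker ?_))
    show π (g ^ n) = 0
    rw [map_pow]; exact h0
  have hreg : ∀ a : T₀, a ≠ 0 → ∀ z : P', (a ⊗ₜ[k] (1 : R₀ ⧸ m)) * z = 0 → z = 0 := by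
    intro a ha z hz
    have h1 : a • z = 0 := by
      rw [← hz]
      clear hz
      induction z using TensorProduct.induction_on with
      | zero => rw [smul_zero, mul_zero]
      | add u v hu hv => rw [smul_add, mul_add, hu, hv]
      | tmul u v => rw [TensorProduct.smul_tmul', Algebra.TensorProduct.tmul_mul_tmul, one_mul, smul_eq_mul]
    exact (smul_eq_zero.mp h1).resolve_left ha
  let S : Submonoid P' :=
    { carrier := {z | ∃ (a : T₀) (n : ℕ), a ≠ 0 ∧ z = (a ⊗ₜ 1) * π g ^ n}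
      one_mem' := ⟨1, 0, one_ne_zero, by rw [pow_zero, mul_one, Algebra.TensorProduct.one_def]⟩
      mul_mem' := by
        rintro _ _ ⟨a, n, ha, rfl⟩ ⟨b, n', hb, rfl⟩
        refine ⟨a * b, n + n', mul_ne_zero ha hb, ?_⟩
        rw [mul_mul_mul_comm, Algebra.TensorProduct.tmul_mul_tmul, mul_one, pow_add] }
  obtain ⟨q, hq, -, hdisj⟩ := Ideal.exists_le_prime_disjoint (⊥ : Ideal P') S (by
    rw [Set.disjoint_left]
    rintro z hz ⟨a, n, ha, rfl⟩
    exact hπg n (hreg a ha _ hz))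
  have := hq
  let F := FractionRing (P' ⧸ q)
  let ν : P' →+* F := (algebraMap (P' ⧸ q) F).comp (Ideal.Quotient.mk q)
  have hν : ∀ z : P', ν z = 0 → z ∈ q := fun z hz =>
    Ideal.Quotient.eq_zero_iff_mem.mp (IsFractionRing.injective (P' ⧸ q) F (hz.trans (map_zero _).symm))
  let νT : T₀ →+* F := ν.comp (Algebra.TensorProduct.includeLeftRingHom)
  have hνT : Function.Injective νT := by
    rw [injective_iff_map_eq_zero]
    intro a ha
    by_contra hne
    exact Set.disjoint_left.mp hdisj (hν _ ha)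
      ⟨a, 0, hne, by rw [pow_zero, mul_one]; rfl⟩
  letI : Algebra K F := (IsFractionRing.lift hνT).toAlgebra
  have hKF : ∀ a, algebraMap K F (algebraMap T₀ K a) = νT a := fun a => IsFractionRing.lift_algebraMap hνT a
  have hνk : ∀ c : k, ν (algebraMap k P' c) = algebraMap k F c := fun c => by
    show algebraMap (P' ⧸ q) F (Ideal.Quotient.mk q (algebraMap k P' c)) = _
    rw [Ideal.Quotient.mk_algebraMap, ← IsScalarTower.algebraMap_apply]
  haveI : IsScalarTower k K F := IsScalarTower.of_algebraMap_eq fun c => by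
    rw [← hνk, IsScalarTower.algebraMap_apply k T₀ K, hKF, Algebra.TensorProduct.algebraMap_apply]
    rfl
  have hRalg : ∀ r : R₀ ⧸ m, IsAlgebraic k (ν (1 ⊗ₜ r)) := fun r => by
    have hi : IsIntegral k r := IsIntegral.of_finite k r
    obtain ⟨f, hf, hfr⟩ := hi.map (Algebra.TensorProduct.includeRight : R₀ ⧸ m →ₐ[k] P')
    refine ⟨f, hf.ne_zero, ?_⟩
    rw [Polynomial.aeval_def, ← show ν.comp (algebraMap k P') = algebraMap k F from RingHom.ext hνk]
    rw [show (1 : T₀) ⊗ₜ[k] r = (Algebra.TensorProduct.includeRight : R₀ ⧸ m →ₐ[k] P') r from rfl,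
      ← Polynomial.hom_eval₂, hfr, map_zero]
  have hFalg : Algebra.IsAlgebraic K F := by
    have hall : ∀ z : P', ν z ∈ algebraicClosure K F := by
      intro z
      induction z using TensorProduct.induction_on with
      | zero => rw [map_zero]; exact zero_mem _
      | add a b ha hb => rw [map_add]; exact add_mem ha hb
      | tmul a r =>
        rw [show a ⊗ₜ[k] r = (a ⊗ₜ[k] (1 : R₀ ⧸ m)) * ((1 : T₀) ⊗ₜ[k] r) by
          rw [Algebra.TensorProduct.tmul_mul_tmul, mul_one, one_mul], map_mul]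
        refine mul_mem ?_ (mem_algebraicClosure_iff.mpr ((hRalg r).tower_top K))
        rw [show ν (a ⊗ₜ[k] (1 : R₀ ⧸ m)) = νT a from rfl, ← hKF]
        exact IntermediateField.algebraMap_mem _ _
    refine ⟨fun x => ?_⟩
    obtain ⟨a, b, -, rfl⟩ := IsFractionRing.div_surjective (A := P' ⧸ q) x
    obtain ⟨a, rfl⟩ := Ideal.Quotient.mk_surjective a
    obtain ⟨b, rfl⟩ := Ideal.Quotient.mk_surjective b
    exact mem_algebraicClosure_iff.mp (div_mem (hall a) (hall b))
  let φ : F →ₐ[K] Ω := IsAlgClosed.lift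
  refine ⟨φ.toRingHom.comp (ν.comp π.toRingHom), ?_, fun a => ?_, fun r => ?_⟩
  · intro h0
    rw [RingHom.comp_apply, map_eq_zero] at h0
    exact Set.disjoint_left.mp hdisj (hν _ h0) ⟨1, 1, one_ne_zero, by
      rw [pow_one, ← Algebra.TensorProduct.one_def, one_mul]; rfl⟩
  · show φ (ν (π (a ⊗ₜ 1))) = _
    rw [show π (a ⊗ₜ[k] (1 : R₀)) = a ⊗ₜ[k] (1 : R₀ ⧸ m) from rfl,
      show ν (a ⊗ₜ[k] (1 : R₀ ⧸ m)) = νT a from rfl, ← hKF, AlgHom.commutes, ← IsScalarTower.algebraMap_apply]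
  · show IsAlgebraic k (φ (ν (π (1 ⊗ₜ r))))
    rw [show π ((1 : T₀) ⊗ₜ[k] r) = (1 : T₀) ⊗ₜ[k] (Ideal.Quotient.mk m r) from rfl]
    exact (hRalg _).algHom (φ.restrictScalars k)

set_option maxHeartbeats 800000 in
/-- Extension of the specialization to finitely many algebraic elements. -/
theorem exists_place {T₀ R₀ KC : Type u} [CommRing T₀] [IsDomain T₀] [Algebra k T₀] [Algebra.FiniteType k T₀]
    [Algebra T₀ K] [IsScalarTower k T₀ K] [IsFractionRing T₀ K] [Algebra T₀ Ω] [IsScalarTower T₀ K Ω]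
    [CommRing R₀] [Algebra k R₀] [Algebra.FiniteType k R₀]
    [Field KC] [Algebra k KC] (θ : T₀ ⊗[k] R₀ →ₐ[k] KC) (hθ : Function.Injective θ) (I : Finset KC)
    (hI : ∀ x ∈ I, IsAlgebraic θ.range x) :
    ∃ (C : Subalgebra k KC) (ψ : C →ₐ[k] Ω), (I : Set KC) ⊆ C ∧
      (∀ a, ∃ h : θ (a ⊗ₜ 1) ∈ C, ψ ⟨_, h⟩ = algebraMap T₀ Ω a) ∧
      ∀ r, ∃ h : θ (1 ⊗ₜ r) ∈ C, IsAlgebraic k (ψ ⟨_, h⟩) := by
  classical
  have : IsDomain (T₀ ⊗[k] R₀) := hθ.isDomain θ.toRingHom
  choose! d hd0 hdint using fun x hx => (hI x hx).exists_integral_multiple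
  let g₀ : θ.range := ∏ x ∈ I, d x
  have hg₀ : g₀ ≠ 0 := Finset.prod_ne_zero_iff.mpr hd0
  obtain ⟨g, hg⟩ := g₀.2
  have hgne : g ≠ 0 := fun h => hg₀ (Subtype.ext (by rw [← hg, h, map_zero]; rfl))
  obtain ⟨χ, hχg, hχT, hχR⟩ := exists_point (k := k) (K := K) (Ω := Ω) hgne
  let L := Localization.Away g
  have hu : IsUnit (θ g) := isUnit_iff_ne_zero.mpr fun h => hgne (hθ (h.trans (map_zero θ).symm))
  let lKC : L →+* KC := IsLocalization.Away.lift g (g := θ.toRingHom) hu
  let lχ : L →+* Ω := IsLocalization.Away.lift g (g := χ) (isUnit_iff_ne_zero.mpr hχg)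
  letI : Algebra L KC := lKC.toAlgebra
  have hlinj : Function.Injective (algebraMap L KC) := by
    rw [injective_iff_map_eq_zero]
    intro z hz
    obtain ⟨a, ⟨_, n, rfl⟩, rfl⟩ := IsLocalization.exists_mk'_eq (Submonoid.powers g) z
    have h1 := congrArg lKC (IsLocalization.mk'_spec L a (⟨g ^ n, n, rfl⟩ : Submonoid.powers g))
    rw [map_mul, show lKC (IsLocalization.mk' L a (⟨g ^ n, n, rfl⟩ : Submonoid.powers g)) = 0 from hz, zero_mul,
      IsLocalization.Away.lift_eq] at h1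
    rw [hθ (h1.symm.trans (map_zero θ).symm), IsLocalization.mk'_zero]
  let C₁ := integralClosure L KC
  have hsurj : Function.Surjective (PrimeSpectrum.comap (algebraMap L C₁)) := by
    have : FaithfulSMul L C₁ := (faithfulSMul_iff_algebraMap_injective L C₁).mpr fun a b h =>
      hlinj (congrArg Subtype.val h)
    exact Algebra.IsIntegral.comap_surjective L C₁
  obtain ⟨ψ₁, hψ₁⟩ := Groth.Agent.Lib.EtaPt.Main.exists_lift_algClosed (algebraMap L C₁)
    (fun z => Algebra.IsIntegral.isIntegral z) hsurj lχ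
  have hθmem : ∀ z, θ z ∈ C₁ := fun z => by
    rw [show θ z = algebraMap L KC (algebraMap _ L z) from (IsLocalization.Away.lift_eq g hu z).symm]
    exact C₁.algebraMap_mem _
  have hθval : ∀ z, ψ₁ ⟨θ z, hθmem z⟩ = χ z := fun z => by
    rw [show (⟨θ z, hθmem z⟩ : C₁) = algebraMap L C₁ (algebraMap _ L z) from
      Subtype.ext (IsLocalization.Away.lift_eq g hu z).symm]
    exact (RingHom.congr_fun hψ₁ _).trans (IsLocalization.Away.lift_eq g (isUnit_iff_ne_zero.mpr hχg) z)
  let C : Subalgebra k KC :=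
    { C₁.toSubsemiring with
      algebraMap_mem' := fun c => by rw [← θ.commutes c]; exact hθmem _ }
  have hcomm : ∀ c : k, ψ₁ ⟨algebraMap k KC c, C.algebraMap_mem c⟩ = algebraMap k Ω c := fun c => by
    rw [show (⟨algebraMap k KC c, C.algebraMap_mem c⟩ : C₁) = ⟨θ (algebraMap k _ c), hθmem _⟩ from
      Subtype.ext (θ.commutes c).symm, hθval, Algebra.TensorProduct.algebraMap_apply, hχT,
      IsScalarTower.algebraMap_apply T₀ K Ω, ← IsScalarTower.algebraMap_apply k T₀ K,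
      ← IsScalarTower.algebraMap_apply k K Ω]
  let ψ : C →ₐ[k] Ω :=
    { toFun := fun x => ψ₁ ⟨x.1, x.2⟩
      map_one' := map_one ψ₁
      map_mul' := fun x y => map_mul ψ₁ ⟨x.1, x.2⟩ ⟨y.1, y.2⟩
      map_zero' := map_zero ψ₁
      map_add' := fun x y => map_add ψ₁ ⟨x.1, x.2⟩ ⟨y.1, y.2⟩
      commutes' := hcomm }
  refine ⟨C, ψ, fun x hx => ?_, fun a => ⟨hθmem _, (hθval _).trans (hχT a)⟩,
    fun r => ⟨hθmem _, ?_⟩⟩
  · show x ∈ C₁
    -- `x = (d x • x) * (g / d x) / g`
    have h1 : ((d x : θ.range) : KC) * x ∈ C₁ := by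
      obtain ⟨f, hf, hfx⟩ := hdint x hx
      refine isIntegral_trans (R := L) (A := C₁) _ ?_
      refine ⟨f.map (θ.range.val.toRingHom.codRestrict C₁ fun z => by
        obtain ⟨w, hw⟩ := z.2
        show (z : KC) ∈ C₁
        rw [← hw]; exact hθmem w), hf.map _, ?_⟩
      rw [Polynomial.eval₂_map]
      exact hfx
    obtain ⟨w, hw⟩ := (∏ y ∈ I.erase x, d y : θ.range).2
    have hdx : ((∏ y ∈ I.erase x, d y : θ.range) : KC) * d x = θ g := by
      rw [← Subalgebra.coe_mul, Finset.prod_erase_mul _ _ hx]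
      exact hg.symm
    have hginv : (θ g)⁻¹ ∈ C₁ := by
      refine (mem_integralClosure_iff L KC).mpr ?_
      rw [show (θ g)⁻¹ = algebraMap L KC (IsLocalization.Away.invSelf g) from ?_]
      · exact isIntegral_algebraMap
      refine inv_eq_of_mul_eq_one_right ?_
      rw [show θ g = algebraMap L KC (algebraMap _ L g) from (IsLocalization.Away.lift_eq g hu g).symm,
        ← map_mul, IsLocalization.Away.mul_invSelf, map_one]
    have hne : θ g ≠ 0 := hu.ne_zero
    rw [show x = ((d x : θ.range) : KC) * x * θ w * (θ g)⁻¹ by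
      rw [eq_mul_inv_iff_mul_eq₀ hne, ← hdx, show θ w = _ from hw]; ring]
    exact mul_mem (mul_mem h1 (hθmem w)) hginv
  · show IsAlgebraic k (ψ₁ ⟨θ (1 ⊗ₜ r), hθmem _⟩)
    rw [hθval]; exact hχR r

end Groth.Agent.H15.CvgAlg.Place
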