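import Groth.Agent.H15.CvgAlg.Basic
import Groth.Agent.H15.CvgAlg.Closure
import Groth.Agent.H15.CvgAlg.Place
import Mathlib.RingTheory.TensorProduct.MvPolynomial

/-!
# Covering gonality under arbitrary base change
-/

universe u

open W4c3irrattreebun IntermediateField
open scoped TensorProduct

namespace Groth.Agent.H15.CvgAlg.Gonality

open Groth.Agent.H15.CvgAlg.Closure

section Aux

/-- A homomorphism carries closures into closures. -/
theorem cl_map {k L Ω Ω' : Type u} [Field k] [Field L] [Field Ω] [Field Ω'] [Algebra k L] [Algebra k Ω]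
    [Algebra k Ω'] [Algebra L Ω'] [IsScalarTower k L Ω'] (f : Ω →ₐ[k] Ω') {S : Set Ω} {x : Ω}
    (hx : x ∈ cl k S) : f x ∈ cl L (f '' S) := by
  obtain ⟨p, hp, hpx⟩ := mem_cl.mp hx
  have hle : (adjoin k S).map f ≤ (adjoin L (f '' S)).restrictScalars k := by
    rw [IntermediateField.adjoin_map, adjoin_le_iff]
    exact subset_adjoin L _
  let g : adjoin k S →+* adjoin L (f '' S) :=
    ((f : Ω →+* Ω').comp (adjoin k S).val.toRingHom).codRestrict (adjoin L (f '' S)) fun a =>
      hle ⟨a, a.2, rfl⟩
  refine mem_cl.mpr ⟨p.map g, (Polynomial.map_ne_zero_iff g.injective).mpr hp, ?_⟩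
  rw [Polynomial.aeval_def, Polynomial.eval₂_map]
  show Polynomial.eval₂ ((f : Ω →+* Ω').comp (algebraMap (adjoin k S) Ω)) ((f : Ω →+* Ω') x) p = 0
  rw [← Polynomial.hom_eval₂, ← Polynomial.aeval_def, hpx, map_zero]

/-- Forgetting the constants. -/
theorem cl_restrict {k L Ω : Type u} [Field k] [Field L] [Field Ω] [Algebra k L] [Algebra k Ω]
    [Algebra L Ω] [IsScalarTower k L Ω] {S : Set Ω} {x : Ω} (hx : x ∈ cl L S) :
    x ∈ cl k (Set.range (algebraMap L Ω) ∪ S) := by
  refine mem_cl_of_isAlgebraic (F := (adjoin L S).restrictScalars k) ?_ (mem_cl.mp hx)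
  intro z hz
  rw [IntermediateField.mem_restrictScalars] at hz
  induction hz using IntermediateField.adjoin_induction with
  | mem y hy => exact subset_cl _ (Or.inr hy)
  | algebraMap c => exact subset_cl _ (Or.inl ⟨c, rfl⟩)
  | add y z _ _ hy hz => exact add_mem hy hz
  | inv y _ hy => exact inv_mem hy
  | mul y z _ _ hy hz => exact mul_mem hy hz

variable {F B C : Type u} [Field F] [Field B] [Field C] [Algebra F B] [Algebra F C] [Algebra B C]
  [IsScalarTower F B C]

theorem card_lt_of_indep {t : C} (ht : Transcendental B t) {Y : Finset C}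
    (hY : ∀ z : C, z ∈ cl F (Y : Set C)) {ι : Type*} [Fintype ι] {z : ι → B}
    (hz : AlgebraicIndependent F z) : Fintype.card ι < Y.card := by
  have hz' : AlgebraicIndependent F (algebraMap B C ∘ z) :=
    hz.map' (f := IsScalarTower.toAlgHom F B C) (algebraMap B C).injective
  have htr : Transcendental (Algebra.adjoin F (Set.range (algebraMap B C ∘ z))) t := by
    intro h
    obtain ⟨p, hp, hpt⟩ := h
    have hle : ∀ a ∈ Algebra.adjoin F (Set.range (algebraMap B C ∘ z)), a ∈ (IsScalarTower.toAlgHom F B C).range :=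
      fun a ha => Algebra.adjoin_le (S := (IsScalarTower.toAlgHom F B C).range)
        (by rintro _ ⟨i, rfl⟩; exact ⟨z i, rfl⟩) ha
    refine ht ?_
    choose g hg using fun a : Algebra.adjoin F (Set.range (algebraMap B C ∘ z)) => hle a a.2
    let q : Polynomial C := p.map (algebraMap _ C)
    have hq : q ∈ Polynomial.lifts (algebraMap B C) := by
      rw [Polynomial.lifts_iff_coeff_lifts]
      intro n
      rw [Polynomial.coeff_map]
      exact ⟨g (p.coeff n), hg _⟩
    obtain ⟨r, hr⟩ := hq
    refine ⟨r, fun h0 => hp ?_, ?_⟩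
    · have : q = 0 := by rw [← hr, h0]; simp
      exact (Polynomial.map_eq_zero_iff Subtype.val_injective).mp this
    · rw [Polynomial.aeval_def, ← Polynomial.eval_map, show r.map (algebraMap B C) = q from hr,
        Polynomial.eval_map, ← Polynomial.aeval_def]
      exact hpt
  have := card_le ((hz'.option_iff_transcendental t).mpr htr) fun o => hY _
  rw [Fintype.card_option] at this
  omega

theorem exists_basis_finset {t : C} (ht : Transcendental B t) {Y : Finset C}
    (hY : ∀ z : C, z ∈ cl F (Y : Set C)) :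
    ∃ y : Finset B, y.card < Y.card ∧ ∀ b : B, b ∈ cl F (y : Set B) := by
  obtain ⟨ι, z, hz⟩ := exists_isTranscendenceBasis' F B
  have hfin : Finite ι := by
    by_contra h
    rw [not_finite_iff_infinite] at h
    obtain ⟨s, hs⟩ := Infinite.exists_subset_card_eq ι Y.card
    have := card_lt_of_indep ht hY (hz.1.comp ((↑) : s → ι) Subtype.val_injective)
    rw [Fintype.card_coe, hs] at this
    exact lt_irrefl _ this
  let := Fintype.ofFinite ι
  classical
  refine ⟨Finset.univ.image z, ?_, fun b => ?_⟩
  · rw [Finset.card_image_of_injective _ hz.1.injective, Finset.card_univ]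
    exact card_lt_of_indep ht hY hz.1
  · rw [Finset.coe_image, Finset.coe_univ, Set.image_univ]
    exact mem_cl.mpr (hz.isAlgebraic_field.isAlgebraic b)

/-- Values of a partial map. -/
def img {k R Ω : Type u} [Field k] [CommRing R] [Field Ω] [Algebra k R] [Algebra k Ω] {C : Subalgebra k R}
    (ψ : C →ₐ[k] Ω) (S : Set R) : Set Ω :=
  ψ '' (Subtype.val ⁻¹' S)

theorem mem_img {k R Ω : Type u} [Field k] [CommRing R] [Field Ω] [Algebra k R] [Algebra k Ω] {C : Subalgebra k R}
    (ψ : C →ₐ[k] Ω) {S : Set R} {z : R} (hz : z ∈ C) (hS : z ∈ S) : ψ ⟨z, hz⟩ ∈ img ψ S :=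
  ⟨⟨z, hz⟩, hS, rfl⟩

end Aux

variable {k K L K' : Type u} [Field k] [Field K] [Field L] [Field K'] [Algebra k K] [Algebra k L]
  [Algebra K K'] [Algebra L K'] [Algebra k K'] [IsScalarTower k K K'] [IsScalarTower k L K']

/-- The comparison map. -/
noncomputable def μ : K ⊗[k] L →ₐ[k] K' :=
  Algebra.TensorProduct.lift (IsScalarTower.toAlgHom k K K') (IsScalarTower.toAlgHom k L K')
    fun _ _ => Commute.all _ _

theorem indep_baseChange (hinj : Function.Injective (μ (k := k) (K := K) (L := L) (K' := K')))
    {ι : Type u} {x : ι → K} (hx : AlgebraicIndependent k x) :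
    AlgebraicIndependent L (algebraMap K K' ∘ x) := by
  let μL : L ⊗[k] K →ₐ[L] K' := Algebra.TensorProduct.lift (Algebra.ofId L K')
    (IsScalarTower.toAlgHom k K K') fun _ _ => Commute.all _ _
  have hμL : Function.Injective μL := by
    have : ∀ w, μL w = μ (k := k) (K := K) (L := L) (K' := K') (Algebra.TensorProduct.comm k L K w) := fun w => by
      induction w using TensorProduct.induction_on with
      | zero => simp
      | add a b ha hb => rw [map_add, map_add, map_add, ha, hb]
      | tmul a b => simp [μL, μ, mul_comm, Algebra.ofId_apply]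
    intro a b h
    exact (Algebra.TensorProduct.comm k L K).injective (hinj ((this a).symm.trans (h.trans (this b))))
  let e := MvPolynomial.algebraTensorAlgEquiv k L (σ := ι)
  let m : L ⊗[k] MvPolynomial ι k →ₐ[L] L ⊗[k] K :=
    Algebra.TensorProduct.map (AlgHom.id L L) (MvPolynomial.aeval x)
  have hm : Function.Injective m := by
    change Function.Injective (TensorProduct.map (LinearMap.id : L →ₗ[k] L) (MvPolynomial.aeval x).toLinearMap)
    exact TensorProduct.map_injective_of_flat_flat _ _ Function.injective_id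
      (algebraicIndependent_iff_injective_aeval.mp hx)
  have hae : (MvPolynomial.aeval (algebraMap K K' ∘ x) : MvPolynomial ι L →ₐ[L] K') =
      μL.comp (m.comp e.symm.toAlgHom) := by
    refine MvPolynomial.algHom_ext fun i => ?_
    simp [e, m, μL]
  rw [algebraicIndependent_iff_injective_aeval, hae]
  exact hμL.comp (hm.comp e.symm.injective)

/-- Generators of `K` containing a transcendence basis. -/
theorem exists_basis_of_fg (hfg : (⊤ : IntermediateField k K).FG) :
    ∃ x : Finset K, AlgebraicIndependent k ((↑) : x → K) ∧ ∀ z : K, z ∈ cl k (x : Set K) := by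
  obtain ⟨T, hT⟩ := hfg
  have : Algebra.IsAlgebraic (Algebra.adjoin k (T : Set K)) K :=
    ⟨fun z => isAlgebraic_adjoin_iff.mp (isAlgebraic_algebraMap
      (⟨z, hT ▸ IntermediateField.mem_top⟩ : adjoin k (T : Set K)))⟩
  obtain ⟨t, ht, hbasis⟩ := exists_isTranscendenceBasis_subset (R := k) (T : Set K)
  have hfin : t.Finite := T.finite_toSet.subset ht
  obtain ⟨s, rfl⟩ : ∃ s : Finset K, (s : Set K) = t := ⟨hfin.toFinset, hfin.coe_toFinset⟩
  refine ⟨s, hbasis.1, fun z => mem_cl.mpr ?_⟩
  have := hbasis.isAlgebraic_field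
  rw [Subtype.range_coe] at this
  exact this.isAlgebraic z

end Groth.Agent.H15.CvgAlg.Gonality
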