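import Groth.Agent.H15.CvgAlg.Gonality

/-!
# Covering gonality does not increase under base change
-/

universe u

open W4c3irrattreebun IntermediateField
open scoped TensorProduct

namespace Groth.Agent.H15.CvgAlg.UpGen

open Groth.Agent.H15.CvgAlg.Closure Groth.Agent.H15.CvgAlg.Gonality

variable {k K L K' : Type u} [Field k] [Field K] [Field L] [Field K'] [Algebra k K] [Algebra k L]
  [Algebra K K'] [Algebra L K'] [Algebra k K'] [IsScalarTower k K K'] [IsScalarTower k L K']

set_option maxHeartbeats 1000000 in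
/-- A diagram extends along an arbitrary base change. -/
theorem up (hinj : Function.Injective (μ (k := k) (K := K) (L := L) (K' := K')))
    (hgen : adjoin K (Set.range (algebraMap L K')) = ⊤) (hfg : (⊤ : IntermediateField k K).FG) {e : ℕ}
    (D : CovDiag.{u} k K e) : ∃ e' ≤ e, Nonempty (CovDiag.{u} L K' e') := by
  classical
  obtain ⟨x, hx, hxcl⟩ := exists_basis_of_fg hfg
  have hY : ∀ z : D.KC, z ∈ cl k ((x.image (algebraMap K D.KC) : Finset D.KC) : Set D.KC) := by
    intro z
    rw [Finset.coe_image]
    have hle : (IsScalarTower.toAlgHom k K D.KC).fieldRange ≤ cl k (algebraMap K D.KC '' (x : Set K)) := by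
      rintro _ ⟨c, rfl⟩
      exact cl_map (L := k) (IsScalarTower.toAlgHom k K D.KC) (hxcl c)
    refine mem_cl_of_isAlgebraic hle ?_
    obtain ⟨p, hp, hpz⟩ := (Algebra.IsAlgebraic.isAlgebraic (R := K) z)
    let g : K →+* (IsScalarTower.toAlgHom k K D.KC).fieldRange :=
      (algebraMap K D.KC).codRestrict _ fun c => ⟨c, rfl⟩
    exact ⟨p.map g, (Polynomial.map_ne_zero_iff g.injective).mpr hp, by
      rw [Polynomial.aeval_def, Polynomial.eval₂_map]; exact hpz⟩
  obtain ⟨y, hy, hycl⟩ := exists_basis_finset D.transc hY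
  let Ω := AlgebraicClosure K'
  let φ₀ : D.KC →ₐ[K] Ω := IsAlgClosed.lift
  let bK := Module.finBasis K D.KC
  let KC' : IntermediateField K' Ω := IntermediateField.adjoin K' (Set.range (φ₀ ∘ bK))
  have hint : ∀ x : D.KC, IsIntegral K' (φ₀ x) := fun x =>
    ((Algebra.IsIntegral.isIntegral (R := K) x).map φ₀).tower_top
  have : Module.Finite K' KC' := IntermediateField.finiteDimensional_adjoin fun x hx => by
    obtain ⟨i, rfl⟩ := hx
    exact hint _
  have hφmem : ∀ x, φ₀ x ∈ KC' := fun x => by
    rw [← bK.sum_repr x, map_sum]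
    refine sum_mem fun i _ => ?_
    rw [Algebra.smul_def, map_mul, AlgHom.commutes, IsScalarTower.algebraMap_apply K K' Ω]
    exact mul_mem (KC'.algebraMap_mem _) (IntermediateField.subset_adjoin _ _ ⟨i, rfl⟩)
  let φ : D.KC →ₐ[K] KC' := φ₀.codRestrict ((KC'.toSubalgebra).restrictScalars K) hφmem
  haveI : IsScalarTower k K KC' := IsScalarTower.of_algebraMap_eq fun c =>
    Subtype.ext (IsScalarTower.algebraMap_apply k K Ω c)
  haveI : IsScalarTower k L KC' := IsScalarTower.of_algebraMap_eq fun c => Subtype.ext (by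
    show algebraMap k Ω c = algebraMap L Ω (algebraMap k L c)
    rw [IsScalarTower.algebraMap_apply L K' Ω, ← IsScalarTower.algebraMap_apply k L K',
      ← IsScalarTower.algebraMap_apply k K' Ω])
  let ψ : D.KC →ₐ[k] KC' := φ.restrictScalars k
  let B : IntermediateField L KC' := adjoin L (Set.range fun c => ψ (algebraMap D.KB D.KC c))
  let Yk : Finset KC' := y.image fun c => ψ (algebraMap D.KB D.KC c)
  have hB : B ≤ cl L (Yk : Set KC') := by
    refine adjoin_le_cl ?_
    rintro _ ⟨c, rfl⟩
    rw [Finset.coe_image, ← Set.image_image ψ (algebraMap D.KB D.KC)]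
    refine cl_map ψ ?_
    exact cl_map (L := k) (IsScalarTower.toAlgHom k D.KB D.KC) (hycl c)
  let E := adjoin D.KB ({D.t} : Set D.KC)
  let E' := adjoin B ({ψ D.t} : Set KC')
  have hE : ∀ c : E, ψ (c : D.KC) ∈ E' := by
    rintro ⟨c, hc⟩
    induction hc using IntermediateField.adjoin_induction with
    | mem z hz =>
      obtain rfl := Set.mem_singleton_iff.mp hz
      exact IntermediateField.mem_adjoin_simple_self _ _
    | algebraMap c => exact E'.algebraMap_mem (⟨_, IntermediateField.subset_adjoin _ _ ⟨c, rfl⟩⟩ : B)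
    | add u v _ _ hu hv => rw [map_add]; exact add_mem hu hv
    | inv u _ hu => rw [map_inv₀]; exact inv_mem hu
    | mul u v _ _ hu hv => rw [map_mul]; exact mul_mem hu hv
  obtain ⟨b⟩ : Nonempty (Module.Basis (Fin e) E D.KC) := ⟨Module.finBasisOfFinrankEq E D.KC D.finrank_eq⟩
  let w : Fin e → KC' := fun a => ψ (b a)
  set Sp := Submodule.span E' (Set.range w)
  have hψS : ∀ y, ψ y ∈ Sp := by
    intro y
    rw [← b.sum_repr y, map_sum]
    refine Submodule.sum_mem _ fun a _ => ?_
    rw [IntermediateField.smul_def, smul_eq_mul, map_mul]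
    exact Submodule.smul_mem _ (⟨_, hE (b.repr y a)⟩ : E') (Submodule.subset_span ⟨a, rfl⟩)
  obtain ⟨M, hM⟩ := Basic.exists_field_span w (by simpa using hψS 1) fun a a' => by
    show ψ (b a) * ψ (b a') ∈ Sp
    rw [← map_mul]; exact hψS _
  have hLM : ∀ l : L, algebraMap L KC' l ∈ M := fun l =>
    M.algebraMap_mem (algebraMap B E' (algebraMap L B l))
  have hKM : ∀ x : K', algebraMap K' KC' x ∈ M := by
    intro x
    have hx : x ∈ IntermediateField.adjoin K (Set.range (algebraMap L K')) := hgen ▸ IntermediateField.mem_top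
    induction hx using IntermediateField.adjoin_induction with
    | mem y hy =>
      obtain ⟨l, rfl⟩ := hy
      rw [← IsScalarTower.algebraMap_apply L K' KC']
      exact hLM l
    | algebraMap c =>
      rw [← IsScalarTower.algebraMap_apply K K' KC', ← φ.commutes]
      exact (hM _).mpr (hψS (algebraMap K D.KC c))
    | add y z _ _ hy hz => rw [map_add]; exact add_mem hy hz
    | inv y _ hy => rw [map_inv₀]; exact inv_mem hy
    | mul y z _ _ hy hz => rw [map_mul]; exact mul_mem hy hz
  have htop : ∀ z : KC', z ∈ M := by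
    rintro ⟨z, hz⟩
    suffices ∀ h : z ∈ KC', (⟨z, h⟩ : KC') ∈ M from this hz
    induction hz using IntermediateField.adjoin_induction with
    | mem y hy =>
      obtain ⟨i, rfl⟩ := hy
      intro h
      rw [show (⟨(φ₀ ∘ bK) i, h⟩ : KC') = ψ (bK i) from Subtype.ext rfl]
      exact (hM _).mpr (hψS (bK i))
    | algebraMap c => intro h; exact hKM c
    | add y z hy hz iy iz =>
      intro h
      exact (show (⟨y + z, h⟩ : KC') = ⟨y, hy⟩ + ⟨z, hz⟩ from rfl) ▸ add_mem (iy hy) (iz hz)
    | inv y hy iy =>
      intro h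
      exact (show (⟨y⁻¹, h⟩ : KC') = ⟨y, hy⟩⁻¹ from rfl) ▸ inv_mem (iy hy)
    | mul y z hy hz iy iz =>
      intro h
      exact (show (⟨y * z, h⟩ : KC') = ⟨y, hy⟩ * ⟨z, hz⟩ from rfl) ▸ mul_mem (iy hy) (iz hz)
  have hSp : Sp = ⊤ := Submodule.eq_top_iff'.mpr fun z => (hM z).mp (htop z)
  have : Module.Finite E' KC' := ⟨hSp ▸ Submodule.fg_span (Set.finite_range w)⟩
  have htr : Transcendental B (ψ D.t) := by
    intro halg
    have ht : ψ D.t ∈ cl L (Yk : Set KC') := mem_cl_of_isAlgebraic hB halg
    have hE' : E'.restrictScalars L ≤ cl L (Yk : Set KC') := by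
      intro z hz
      rw [IntermediateField.mem_restrictScalars] at hz
      induction hz using IntermediateField.adjoin_induction with
      | mem y hy => rw [Set.mem_singleton_iff.mp hy]; exact ht
      | algebraMap c => exact hB c.2
      | add y z _ _ hy hz => exact add_mem hy hz
      | inv y _ hy => exact inv_mem hy
      | mul y z _ _ hy hz => exact mul_mem hy hz
    have hall : ∀ z, z ∈ cl L (Yk : Set KC') := fun z =>
      mem_cl_of_isAlgebraic hE' (Algebra.IsAlgebraic.isAlgebraic (R := E') z)
    have hxi := (indep_baseChange hinj hx).map' (f := IsScalarTower.toAlgHom L K' KC')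
      (algebraMap K' KC').injective
    have h1 := card_le hxi fun i => hall _
    rw [Fintype.card_coe] at h1
    have h2 : Yk.card ≤ y.card := Finset.card_image_le
    have h3 : (x.image (algebraMap K D.KC)).card ≤ x.card := Finset.card_image_le
    omega
  have he : Module.finrank E' KC' ≤ e := by
    rw [← finrank_top E' KC', ← hSp]
    exact (finrank_range_le_card w).trans (Fintype.card_fin e).le
  exact ⟨_, he, ⟨{ KC := KC', KB := B, t := ψ D.t, transc := htr, finrank_eq := rfl }⟩⟩

end Groth.Agent.H15.CvgAlg.UpGen
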